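import Cfsg.Agent.PushRed.Chars
import Cfsg.Agent.FFStruct.OddSys
import Cfsg.Agent.FFStruct.LocalCStar

/-!
# The Baumann subgroup when no characteristic subgroup of a Sylow subgroup is normal
-/

set_option autoImplicit false
set_option linter.unusedSectionVars false
set_option linter.style.haveILetI false

namespace Cfsg.Agent.PushRed

open Subgroup
open scoped Pointwise IsMulCommutative commutatorElement MatrixGroups

universe u

variable {X : Type u} [Group X] [Finite X] {p : ℕ} [Fact p.Prime]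

/-- `O_p(X) < S` lies in one maximal subgroup, and no characteristic subgroup of `S` is normal. -/
structure Cfg (p : ℕ) [Fact p.Prime] (S : Sylow p X) (M : Subgroup X) : Prop where
  hp2 : p ≠ 2
  hC : centralizer (Cfsg.pCore p X : Set X) ≤ Cfsg.pCore p X
  hlt : Cfsg.pCore p X < (S : Subgroup X)
  hM : IsCoatom M
  hSM : (S : Subgroup X) ≤ M
  uniq : ∀ H : Subgroup X, (S : Subgroup X) ≤ H → H ≠ ⊤ → H ≤ M
  hchar : ∀ K : Subgroup ↥(S : Subgroup X), K ≠ ⊥ → K.Characteristic →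
    ¬ (K.map (S : Subgroup X).subtype).Normal

variable {S : Sylow p X} {M : Subgroup X}

theorem Cfg.normalizer_le (h : Cfg p S M) {K : Subgroup X} (hK : K ≤ (S : Subgroup X)) (hne : K ≠ ⊥)
    (hch : (K.subgroupOf (S : Subgroup X)).Characteristic) : normalizer (K : Set X) ≤ M := by
  haveI := hch
  refine h.uniq _ ((normal_subgroupOf_iff_le_normalizer hK).1 inferInstance) fun e => ?_
  refine h.hchar (K.subgroupOf (S : Subgroup X)) ?_ hch ?_
  · rw [Ne, subgroupOf_eq_bot, disjoint_iff, inf_eq_left.2 hK]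
    exact hne
  · rw [subgroupOf_map_subtype, inf_eq_left.2 hK]
    exact normalizer_eq_top_iff.1 e

theorem Cfg.ne_bot (h : Cfg p S M) : (S : Subgroup X) ≠ ⊥ := fun e =>
  h.hlt.ne (le_antisymm h.hlt.le (e.le.trans bot_le))

theorem omega_ne_bot (hS : (S : Subgroup X) ≠ ⊥) : Cfsg.omegaOneCenter p (S : Subgroup X) ≠ ⊥ := by
  haveI : Nontrivial ↥(S : Subgroup X) := (nontrivial_iff_ne_bot _).2 hS
  haveI := S.2.center_nontrivial
  obtain ⟨n, hn⟩ := IsPGroup.iff_card.1 (S.2.to_subgroup (center ↥(S : Subgroup X)))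
  have hn0 : n ≠ 0 := by
    rintro rfl
    have h1 : 1 < Nat.card (center ↥(S : Subgroup X)) := Finite.one_lt_card
    rw [hn, pow_zero] at h1
    omega
  obtain ⟨z, hz⟩ := exists_prime_orderOf_dvd_card' (G := center ↥(S : Subgroup X)) p
    (hn ▸ dvd_pow_self p hn0)
  intro e
  have hzp : (((z : ↥(S : Subgroup X)) : X)) ^ p = 1 := by
    have h2 := congrArg (fun t : center ↥(S : Subgroup X) => (((t : ↥(S : Subgroup X))) : X))
      (hz ▸ pow_orderOf_eq_one z)
    simpa using h2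
  have hmem : (((z : ↥(S : Subgroup X)) : X)) ∈ Cfsg.omegaOneCenter p (S : Subgroup X) :=
    Thompson.mem_omegaOne ⟨(z : ↥(S : Subgroup X)).2, mem_centralizer_iff.2 fun s hs =>
      congrArg Subtype.val (mem_center_iff.1 z.2 ⟨s, hs⟩)⟩ hzp
  rw [e, mem_bot] at hmem
  have h3 : z = 1 := Subtype.ext (Subtype.ext hmem)
  rw [h3, orderOf_one] at hz
  exact (Fact.out : p.Prime).ne_one hz.symm

theorem Cfg.centralizer_omega_le (h : Cfg p S M) :
    centralizer (Cfsg.omegaOneCenter p (S : Subgroup X) : Set X) ≤ M :=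
  (centralizer_le_normalizer _).trans (h.normalizer_le ((Thompson.omegaOne_le p _).trans inf_le_left)
    (omega_ne_bot h.ne_bot) (omegaCentre_char _))

theorem Cfg.cStarStar_ne_top (h : Cfg p S M) :
    Cfsg.cStarStarOf p (S : Subgroup X) ≠ ⊤ := by
  intro e
  refine h.hM.1 (top_le_iff.1 (e.ge.trans (sup_le h.centralizer_omega_le
    (h.normalizer_le (Thompson.thompsonOf_le p _) (fun e' => ?_) (thompsonOf_char _)))))
  refine omega_ne_bot h.ne_bot (le_bot_iff.1 ?_)
  refine (closure_le _).2 fun x hx => ?_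
  show x ∈ (⊥ : Subgroup X)
  rw [← e']
  obtain ⟨A, hA⟩ := Thompson.exists_maxEA p ↥(S : Subgroup X)
  have hxA : (⟨x, hx.1.1⟩ : ↥(S : Subgroup X)) ∈ A := by
    refine Thompson.mem_thompson_of_centralizes (Subtype.ext hx.2) ?_ A hA
    exact mem_centralizer_iff.2 fun y _ => Subtype.ext (mem_centralizer_iff.1 hx.1.2 (y : X) y.2)
  exact ⟨_, Thompson.le_thompson hA hxA, rfl⟩

theorem Cfg.pMinimal (h : Cfg p S M) : Cfsg.IsPMinimal p X := by
  intro S'
  obtain ⟨g, rfl⟩ := MulAction.exists_smul_eq X S S'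
  have hSc : ((g • S : Sylow p X) : Subgroup X) = FFStruct.cj g (S : Subgroup X) :=
    Sylow.coe_subgroup_smul
  refine ⟨fun hn => ?_, FFStruct.cj g M, ⟨((MulAut.conj g).mapSubgroup.isCoatom_iff M).2 h.hM,
    hSc ▸ FFStruct.cj_mono g h.hSM⟩, fun M' hM' => ?_⟩
  · have hn' : (S : Subgroup X).Normal := by
      have e : (S : Subgroup X) = FFStruct.cj g⁻¹ ((g • S : Sylow p X) : Subgroup X) := by
        rw [hSc, FFStruct.cj_inv_cj]
      rw [e, FFStruct.cj_of_mem_normalizer (by rw [normalizer_eq_top_iff.2 hn]; exact mem_top _)]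
      exact hn
    exact h.hlt.not_ge (Core.le_pCore S.2)
  · obtain ⟨hM', hS'⟩ := hM'
    have h1 : FFStruct.cj g⁻¹ M' ≤ M := by
      refine h.uniq _ ?_ fun e => hM'.1 ?_
      · rw [hSc] at hS'
        exact (FFStruct.cj_inv_cj g _).ge.trans (FFStruct.cj_mono g⁻¹ hS')
      · rw [← FFStruct.cj_cj_inv g M', e]
        show Subgroup.map _ ⊤ = ⊤
        exact map_top_of_surjective _ (MulAut.conj g).surjective
    have h2 : M' ≤ FFStruct.cj g M :=
      (FFStruct.cj_cj_inv g M').ge.trans (FFStruct.cj_mono g h1)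
    refine ((hM'.le_iff.1 h2).resolve_left ?_).symm
    exact (((MulAut.conj g).mapSubgroup.isCoatom_iff M).2 h.hM).1

/-- What the Baumann argument provides: a subgroup `X0` with Sylow subgroup `B(S)` mapped onto a
product of copies of `SL₂`. -/
structure BData (p : ℕ) [Fact p.Prime] (S : Sylow p X) where
  r : ℕ
  F : Fin r → Type
  fld : ∀ i, Field (F i)
  fin : ∀ i, Fintype (F i)
  card_F : ∀ i, ∃ n : ℕ, 1 ≤ n ∧ Fintype.card (F i) = p ^ n
  V : Subgroup X
  Q0 : Subgroup X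
  X0 : Subgroup X
  φ : ∀ i, ↥X0 →* SL(2, F i)
  pos : 1 ≤ r
  hV : V.Normal
  hQ0 : Q0.Normal
  VQ0 : V ≤ Q0
  Q0Q : Q0 ≤ Cfsg.pCore p X
  VQ : V ≤ centralizer (Cfsg.pCore p X : Set X)
  cQ0 : Cfsg.pCore p X ⊓ centralizer (Q0 : Set X) ≤ Q0
  BX0 : Cfsg.baumannSubgroupOf p (S : Subgroup X) ≤ X0
  Q0B : Q0 ≤ Cfsg.baumannSubgroupOf p (S : Subgroup X)
  Bidx : ¬ p ∣ ((Cfsg.baumannSubgroupOf p (S : Subgroup X)).subgroupOf X0).index
  X0Q : X0 ⊓ Cfsg.pCore p X ≤ Q0
  pC : ∀ R : Subgroup X, IsPGroup p R → R ≤ centralizer (V : Set X) → R ≤ Cfsg.pCore p X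
  comm : ∀ g ∈ Cfsg.baumannSubgroupOf p (S : Subgroup X), ∀ q ∈ Cfsg.pCore p X, ⁅q, g⁆ ∈ Q0
  quad : ∀ g ∈ Cfsg.baumannSubgroupOf p (S : Subgroup X), ∀ v ∈ V, ⁅⁅v, g⁆, g⁆ = 1
  joint : ∀ f : ∀ i, SL(2, F i), ∃ x : ↥X0, ∀ i, φ i x = f i
  ker : ∀ x : ↥X0, (∀ i, φ i x = 1) ↔ (x : X) ∈ centralizer (V : Set X)
  gen : ∀ (i : Fin r) (H : Subgroup X), Cfsg.baumannSubgroupOf p (S : Subgroup X) ≤ H → H ≤ X0 →
    (∀ a : SL(2, F i), ∃ x : ↥X0, (x : X) ∈ H ∧ φ i x = a) →
    (∀ x : ↥X0, (x : X) ∈ H → ∀ j, j ≠ i →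
      ∃ b : ↥X0, (b : X) ∈ Cfsg.baumannSubgroupOf p (S : Subgroup X) ∧ φ j b = φ j x) →
    (S : Subgroup X) ⊔ H = ⊤
  BnQ : ¬ Cfsg.baumannSubgroupOf p (S : Subgroup X) ≤ Cfsg.pCore p X

attribute [instance] BData.fld BData.fin BData.hV BData.hQ0

theorem exists_bData (h : Cfg p S M) : Nonempty (BData p S) := by
  classical
  have hp2 := h.hp2
  set Q := Cfsg.pCore p X with hQdef
  haveI hQn : Q.Normal := Core.pCore_normal
  have hQS : Q ≤ (S : Subgroup X) := Core.pCore_le_sylow S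
  let V := Cfsg.omegaOneCenter p Q
  haveI hVn : V.Normal := Baumann.omegaOneCenter_normal
  have hVea : Cfsg.IsElementaryAbelian p V := Thompson.omegaOne_centre_ea p _
  haveI : IsMulCommutative V := hVea.1
  have hVQ : V ≤ centralizer (Q : Set X) := Baumann.omegaOneCenter_comm _
  have hVleQ : V ≤ Q := (Thompson.omegaOne_le p _).trans inf_le_left
  let C := centralizer (V : Set X)
  haveI hCn : C.Normal := inferInstanceAs (centralizer (V : Set X)).Normal
  let mk := QuotientGroup.mk' C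
  have hmks : Function.Surjective mk := QuotientGroup.mk'_surjective C
  let π := mk.comp (⊤ : Subgroup X).subtype
  have hπ : Function.Surjective π := fun x => by
    obtain ⟨g, rfl⟩ := hmks x
    exact ⟨⟨g, mem_top g⟩, rfl⟩
  have hPV : (⊤ : Subgroup X) ≤ normalizer (V : Set X) := by
    rw [normalizer_eq_top_iff.2 hVn]
  have hk : ∀ e : ↥(⊤ : Subgroup X), π e = 1 ↔ (e : X) ∈ centralizer (V : Set X) := fun e =>
    QuotientGroup.eq_one_iff (e : X)
  letI := FFStruct.quotAct hPV hπ fun e => (hk e).1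
  haveI := FFStruct.quotAct_faithful hPV hπ hk
  have hc := FFStruct.quotAct_isConj hPV hπ fun e => (hk e).1
  have hmin := h.pMinimal
  obtain ⟨r, E, hE0, hJX⟩ := FFStruct.local_cStarStar hmin h.hC S h.cStarStar_ne_top
    (V := V) rfl (C := C) rfl hc
  let T : Sylow p (X ⧸ C) := Sylow.mapSurjective hmks S
  have hT : (T : Subgroup (X ⧸ C)) = (S : Subgroup X).map mk := Sylow.coe_mapSurjective ..
  have hE : FFStruct.SysData (Additive ↥V) p (T : Subgroup (X ⧸ C)) E := hT.symm ▸ hE0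
  have hpV : ∀ v : Additive ↥V, p • v = 0 := fun v =>
    Additive.toMul.injective (Subtype.ext ((Thompson.ea_iff.1 hVea).2 _ (Additive.toMul v).2))
  have hCM : C ≤ M := by
    refine le_trans (centralizer_le ?_) h.centralizer_omega_le
    exact FFStruct.omega_sylow_le h.hC S
  have htopM : ∀ K : Subgroup X, (S : Subgroup X) ≤ K → K ⊔ C = ⊤ → K = ⊤ := fun K hSK hK => by
    by_contra hne
    exact h.hM.1 (top_le_iff.1 (hK.ge.trans (sup_le (h.uniq K hSK hne) hCM)))
  -- `Q` is the Sylow subgroup of `C`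
  have hQC : Q ≤ C := le_centralizer_iff.1 hVQ
  have hSC : (S : Subgroup X) ⊓ C ≤ Q := by
    obtain ⟨R, hR⟩ := Cfsg.Agent.SylowNumber.exists_sylow_inf S C
    have hf := Sylow.normalizer_sup_eq_top R
    rw [hR, subgroupOf_map_subtype, inf_assoc, inf_idem] at hf
    have hSN : (S : Subgroup X) ≤ normalizer (((S : Subgroup X) ⊓ C : Subgroup X) : Set X) := by
      intro t ht
      refine mem_normalizer_iff.2 fun y => ?_
      have h1 := mem_normalizer_iff.1
        (show t ∈ normalizer (C : Set X) by rw [normalizer_eq_top_iff.2 hCn]; exact mem_top t) y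
      have h2 := mem_normalizer_iff.1 (le_normalizer ht : t ∈ normalizer ((S : Subgroup X) : Set X)) y
      exact and_congr h2 h1
    haveI := normalizer_eq_top_iff.1 (htopM _ hSN hf)
    exact Core.le_pCore (S.2.to_le inf_le_left)
  have hpC : ∀ R : Subgroup X, IsPGroup p R → R ≤ C → R ≤ Q := by
    intro R hR hRC x hx
    obtain ⟨S', hS'⟩ := hR.exists_le_sylow
    obtain ⟨g, hg⟩ := MulAction.exists_smul_eq X S' S
    have h1 : g * x * g⁻¹ ∈ (S : Subgroup X) := by
      rw [← hg, Sylow.coe_subgroup_smul]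
      exact ⟨x, hS' hx, rfl⟩
    have h2 := hQn.conj_mem _ (hSC ⟨h1, hCn.conj_mem x (hRC hx) g⟩) g⁻¹
    simpa [mul_assoc] using h2
  set P := (T : Subgroup (X ⧸ C)) ⊓ ⨆ i, E i with hP
  have hOp : Cfsg.pCore p (X ⧸ C) = ⊥ := by
    set D := (Cfsg.pCore p (X ⧸ C)).comap mk with hD
    haveI hn : D.Normal := (Core.pCore_normal (p := p) (G := X ⧸ C)).comap mk
    obtain ⟨R, hR⟩ := Cfsg.Agent.SylowNumber.exists_sylow_inf S D
    have hf := Sylow.normalizer_sup_eq_top R
    rw [hR, subgroupOf_map_subtype, inf_assoc, inf_idem] at hf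
    have hDle : D ≤ ((S : Subgroup X) ⊓ D) ⊔ C := by
      intro d hd
      obtain ⟨t, ht, e⟩ : ∃ t ∈ (S : Subgroup X), mk t = mk d := hT.le ((Core.pCore_le_sylow (p := p) T) hd)
      have htd : t⁻¹ * d ∈ C := QuotientGroup.eq.1 e
      have htD : t ∈ D := by rw [hD, mem_comap, e]; exact hd
      rw [show d = t * (t⁻¹ * d) by group]
      exact mul_mem_sup ⟨ht, htD⟩ htd
    have hSN : (S : Subgroup X) ≤ normalizer (((S : Subgroup X) ⊓ D : Subgroup X) : Set X) := by
      intro t ht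
      refine mem_normalizer_iff.2 fun y => ?_
      have h1 := mem_normalizer_iff.1
        (show t ∈ normalizer (D : Set X) by rw [normalizer_eq_top_iff.2 hn]; exact mem_top t) y
      have h2 := mem_normalizer_iff.1 (le_normalizer ht : t ∈ normalizer ((S : Subgroup X) : Set X)) y
      exact and_congr h2 h1
    have htop : normalizer (((S : Subgroup X) ⊓ D : Subgroup X) : Set X) = ⊤ := by
      refine htopM _ hSN (top_le_iff.1 (hf.ge.trans (sup_le le_sup_left ?_)))
      exact hDle.trans (sup_le (le_sup_of_le_left le_normalizer) le_sup_right)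
    haveI := normalizer_eq_top_iff.1 htop
    have hle : (S : Subgroup X) ⊓ D ≤ C := (Core.le_pCore (S.2.to_le inf_le_left)).trans hQC
    refine le_bot_iff.1 ?_
    rw [← map_comap_eq_self_of_surjective hmks (Cfsg.pCore p (X ⧸ C)), map_le_iff_le_comap,
      MonoidHom.comap_bot, QuotientGroup.ker_mk']
    exact hDle.trans (sup_le hle le_rfl)
  -- members of largest order
  have hmax : ∀ {A : Subgroup X}, A ≤ (S : Subgroup X) → Cfsg.IsElementaryAbelian p A →
      (∀ B : Subgroup X, B ≤ (S : Subgroup X) → Cfsg.IsElementaryAbelian p B → Nat.card B ≤ Nat.card A) →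
      A ∈ Cfsg.maxElementaryAbelianSubgroups p X := fun hA hAe hAm => Thompson.maxEA_of_sylow S hA hAe hAm
  have hoff : ∀ {A : Subgroup X}, A ∈ Cfsg.maxElementaryAbelianSubgroups p X →
      A ≤ (S : Subgroup X) → A.map mk ≤ P ∧
      Nat.card (Additive ↥V) ≤ Nat.card (A.map mk) * Nat.card (FFStruct.fx (V := Additive ↥V) (A.map mk)) ∧
      Nat.card A = Nat.card (A.map mk) * Nat.card (A ⊓ C : Subgroup X) ∧
      Nat.card (V ⊓ centralizer (A : Set X) : Subgroup X) ≤
        Nat.card (FFStruct.fx (V := Additive ↥V) (A.map mk)) := by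
    intro A hAm hAS
    have h1 := FFStruct.maxEA_offender hVea hAm
    have h2 : Nat.card A = Nat.card (A.map mk) * Nat.card (A ⊓ C : Subgroup X) := by
      have h3 := FFStruct.card_range_ker (mk.comp A.subtype)
      rw [MonoidHom.range_comp, range_subtype] at h3
      rw [h3]
      congr 1
      refine Nat.card_congr
        { toFun := fun x => ⟨((x : A) : X), (x : A).2, (QuotientGroup.eq_one_iff _).1 x.2⟩
          invFun := fun x => ⟨⟨x, x.2.1⟩, (QuotientGroup.eq_one_iff (x : X)).2 x.2.2⟩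
          left_inv := fun _ => rfl
          right_inv := fun _ => rfl }
    have h4 : Nat.card (V ⊓ centralizer (A : Set X) : Subgroup X) ≤
        Nat.card (FFStruct.fx (V := Additive ↥V) (A.map mk)) := by
      refine Nat.card_le_card_of_injective (fun x => ⟨Additive.ofMul (⟨x, x.2.1⟩ : ↥V), ?_⟩) ?_
      · rintro _ ⟨a, ha, rfl⟩
        refine Additive.toMul.injective (Subtype.ext ?_)
        refine (hc ⟨a, mem_top a⟩ _).trans ?_
        show a * (x : X) * a⁻¹ = x
        rw [mem_centralizer_iff.1 x.2.2 a ha, mul_inv_cancel_right]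
      · intro x y hxy
        have h' := congrArg (fun w => ((Additive.toMul (Subtype.val w) : ↥V) : X)) hxy
        exact Subtype.ext h'
    rw [h2] at h1
    have hb : Nat.card (Additive ↥V) ≤
        Nat.card (A.map mk) * Nat.card (FFStruct.fx (V := Additive ↥V) (A.map mk)) := by
      refine Nat.le_of_mul_le_mul_right (c := Nat.card (A ⊓ C : Subgroup X)) ?_ Nat.card_pos
      calc Nat.card (Additive ↥V) * Nat.card (A ⊓ C : Subgroup X)
          = Nat.card V * Nat.card (A ⊓ C : Subgroup X) := rfl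
        _ ≤ _ := h1
        _ ≤ Nat.card (A.map mk) * Nat.card (A ⊓ C : Subgroup X) *
            Nat.card (FFStruct.fx (V := Additive ↥V) (A.map mk)) := Nat.mul_le_mul_left _ h4
        _ = _ := by ring
    have hAT : A.map mk ≤ (T : Subgroup (X ⧸ C)) := hT ▸ map_mono hAS
    exact ⟨le_inf hAT (hE.offender_le T.isPGroup' hOp (Thompson.ea_map hAm.1 _) hAT hb), hb, h2, h4⟩
  -- `A* = (A ∩ C) V`
  have hstar : ∀ {A : Subgroup X}, A ∈ Cfsg.maxElementaryAbelianSubgroups p X →
      A ≤ (S : Subgroup X) →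
      ((A ⊓ C) ⊔ V) ∈ Cfsg.maxElementaryAbelianSubgroups p X ∧ (A ⊓ C) ⊔ V ≤ Q := by
    intro A hAm hAS
    obtain ⟨hAP, -, hcard, hfix⟩ := hoff hAm hAS
    have hupper := hE.card_bound hp2 hAP
    have hcm : A ⊓ C ≤ centralizer (V : Set X) := inf_le_right
    have hea : Cfsg.IsElementaryAbelian p ((A ⊓ C) ⊔ V : Subgroup X) :=
      Thompson.ea_sup (Thompson.ea_mono hAm.1 inf_le_left) hVea hcm
    have e := Thompson.card_sup_mul_card_inf_of_comm hcm
    have hge : Nat.card A ≤ Nat.card ((A ⊓ C) ⊔ V : Subgroup X) := by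
      refine Nat.le_of_mul_le_mul_right (c := Nat.card (V ⊓ centralizer (A : Set X) : Subgroup X)) ?_
        Nat.card_pos
      calc Nat.card A * Nat.card (V ⊓ centralizer (A : Set X) : Subgroup X)
          ≤ Nat.card (A ⊓ C : Subgroup X) * (Nat.card (A.map mk) *
              Nat.card (FFStruct.fx (V := Additive ↥V) (A.map mk))) := by
            rw [hcard, mul_comm (Nat.card (A.map mk)) _, mul_assoc]
            exact Nat.mul_le_mul_left _ (Nat.mul_le_mul_left _ hfix)
        _ ≤ Nat.card (A ⊓ C : Subgroup X) * Nat.card V := Nat.mul_le_mul_left _ hupper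
        _ = _ := e.symm
        _ ≤ _ := by
          refine Nat.mul_le_mul_left _ (Subgroup.card_le_of_le (le_inf inf_le_right ?_))
          exact inf_le_left.trans (inf_le_left.trans (Thompson.ea_iff.1 hAm.1).1)
    exact ⟨⟨hea, fun B hB => (hAm.2 B hB).trans hge⟩,
      sup_le ((inf_le_inf_right _ hAS).trans hSC) hVleQ⟩
  obtain ⟨A1, hA1⟩ : ∃ A, A ∈ Cfsg.maxElementaryAbelianSubgroups p X ∧ A ≤ Q := by
    obtain ⟨A, hA⟩ := Thompson.exists_maxEA p X
    obtain ⟨S', hS'⟩ := (Thompson.ea_isPGroup hA.1).exists_le_sylow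
    obtain ⟨g, hg⟩ := MulAction.exists_smul_eq X S' S
    exact ⟨_, hstar (Thompson.maxEA_map_equiv (MulAut.conj g) hA)
      (by rw [← hg, Sylow.coe_subgroup_smul]; exact map_mono hS')⟩
  -- the subgroup `W2`
  let W2 := sInf {A : Subgroup X | A ∈ Cfsg.maxElementaryAbelianSubgroups p X ∧ A ≤ Q}
  have hW2le : ∀ {A : Subgroup X}, A ∈ Cfsg.maxElementaryAbelianSubgroups p X → A ≤ Q → W2 ≤ A :=
    fun hA hAQ => sInf_le ⟨hA, hAQ⟩
  have hW2n : W2.Normal := ⟨fun w hw g => mem_sInf.2 fun A hA => by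
    have h1 := mem_sInf.1 hw (A.map (MulAut.conj g⁻¹).toMonoidHom)
      ⟨Thompson.maxEA_map_equiv (MulAut.conj g⁻¹) hA.1, by
        rintro _ ⟨a, ha, rfl⟩
        simpa using hQn.conj_mem a (hA.2 ha) g⁻¹⟩
    obtain ⟨a, ha, e⟩ := h1
    rw [← e]
    simpa [mul_assoc] using ha⟩
  have hinW2 : ∀ {x : X}, x ^ p = 1 →
      (∀ A ∈ Cfsg.maxElementaryAbelianSubgroups p X, A ≤ Q → x ∈ centralizer (A : Set X)) → x ∈ W2 := by
    intro x hx hcen
    refine mem_sInf.2 fun A hA => ?_
    have hcm : A ≤ centralizer (zpowers x : Set X) := by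
      rw [le_centralizer_iff, zpowers_le]
      exact hcen A hA.1 hA.2
    have hle := hA.1.2 _ (Thompson.ea_sup hA.1.1 (Thompson.ea_zpowers hx) hcm)
    rw [eq_of_le_of_card_ge (le_sup_left : A ≤ A ⊔ zpowers x) hle]
    exact mem_sup_right (mem_zpowers x)
  have hW2comm : W2 ≤ centralizer (W2 : Set X) := (hW2le hA1.1 hA1.2).trans
    ((Thompson.ea_iff.1 hA1.1.1).1.trans (centralizer_le (hW2le hA1.1 hA1.2)))
  have hW2A : ∀ {A : Subgroup X}, A ∈ Cfsg.maxElementaryAbelianSubgroups p X → ∀ a ∈ A,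
      ∀ w ∈ W2, ⁅a, w⁆ ∈ V := by
    intro A hA a ha w hw
    obtain ⟨S', hS'⟩ := (Thompson.ea_isPGroup hA.1).exists_le_sylow
    obtain ⟨g, hg⟩ := MulAction.exists_smul_eq X S' S
    set A' := A.map (MulAut.conj g).toMonoidHom with hA'
    have hA'm := Thompson.maxEA_map_equiv (MulAut.conj g) hA
    obtain ⟨hm, hQ'⟩ := hstar hA'm (by rw [← hg, Sylow.coe_subgroup_smul]; exact map_mono hS')
    have hw' : g * w * g⁻¹ ∈ (A' ⊓ C) ⊔ V := hW2le hm hQ' (hW2n.conj_mem w hw g)
    obtain ⟨b, hb, v, hv, e⟩ := mem_sup_of_normal_right.1 hw'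
    have ha' : g * a * g⁻¹ ∈ A' := ⟨a, ha, rfl⟩
    have hab : g * a * g⁻¹ * b = b * (g * a * g⁻¹) :=
      mem_centralizer_iff.1 ((Thompson.ea_iff.1 hA'm.1).1 hb.1) _ ha'
    have h1 : ⁅g * a * g⁻¹, g * w * g⁻¹⁆ ∈ V := by
      rw [← e, show ⁅g * a * g⁻¹, b * v⁆ =
        (g * a * g⁻¹ * b) * v * (g * a * g⁻¹)⁻¹ * v⁻¹ * b⁻¹ by rw [commutatorElement_def]; group, hab,
        show b * (g * a * g⁻¹) * v * (g * a * g⁻¹)⁻¹ * v⁻¹ * b⁻¹ =
          b * ((g * a * g⁻¹) * v * (g * a * g⁻¹)⁻¹ * v⁻¹) * b⁻¹ by group]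
      exact hVn.conj_mem _ (mul_mem (hVn.conj_mem v hv _) (inv_mem hv)) b
    have h2 := hVn.conj_mem _ h1 g⁻¹
    rw [show g⁻¹ * ⁅g * a * g⁻¹, g * w * g⁻¹⁆ * g⁻¹⁻¹ = ⁅a, w⁆ by
      simp only [commutatorElement_def]; group] at h2
    exact h2
  -- `Y`, `W`, `Q0`
  let Js := Cfsg.thompsonSubgroupOf p (S : Subgroup X)
  let Y := Cfsg.omegaOne p (Cfsg.centerThompsonOf p (S : Subgroup X))
  let B := Cfsg.baumannSubgroupOf p (S : Subgroup X)
  have hYJ : Y ≤ centralizer (Js : Set X) := (Thompson.omegaOne_le p _).trans inf_le_right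
  have hYS : Y ≤ (S : Subgroup X) :=
    (Thompson.omegaOne_le p _).trans (inf_le_left.trans (Thompson.thompsonOf_le p _))
  have hAJ : ∀ {A : Subgroup X}, A ∈ Cfsg.maxElementaryAbelianSubgroups p X → A ≤ (S : Subgroup X) →
      A ≤ Js := fun hA hAS => Thompson.le_thompsonOf hAS hA.1 fun B _ hB => hA.2 B hB
  have hYW2 : Y ≤ W2 := (closure_le _).2 fun x hx => hinW2 hx.2 fun A hA hAQ =>
    centralizer_le (hAJ hA (hAQ.trans hQS)) hx.1.2
  have hVW2 : V ≤ W2 := fun v hv => hinW2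
    ((Thompson.ea_iff.1 hVea).2 v hv) fun A _ hAQ => centralizer_le hAQ (hVQ hv)
  set W := V ⊔ Y with hW
  have hWW2 : W ≤ W2 := sup_le hVW2 hYW2
  have hWn : W.Normal := by
    refine normalizer_eq_top_iff.1 (htopM _ ?_ ?_)
    · intro s hs
      refine FFStruct.mem_normalizer_of_cj ?_
      show (V ⊔ Y).map _ = V ⊔ Y
      rw [Subgroup.map_sup]
      congr 1
      · exact FFStruct.cj_of_mem_normalizer (by rw [normalizer_eq_top_iff.2 hVn]; exact mem_top s)
      · refine FFStruct.cj_of_mem_normalizer ?_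
        have hch : (Y.subgroupOf (S : Subgroup X)).Characteristic :=
          char_of_natural (F := fun {_} [_] Z => Cfsg.omegaOne p (Cfsg.centerThompsonOf p Z))
            (fun f hf Z => by
              rw [Thompson.omegaOne_map_of_injective hf, Cfsg.centerThompsonOf, Cfsg.centerThompsonOf,
                map_inf_centralizer hf, Thompson.thompsonOf_map_of_injective hf]) _
        exact (normal_subgroupOf_iff_le_normalizer hYS).1 inferInstance hs
    · refine top_le_iff.1 ?_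
      have h1 : (Cfsg.thompsonSubgroup p X) ≤ normalizer (W : Set X) := by
        refine sSup_le fun A hA a ha => ?_
        refine FFStruct.mem_normalizer_of_cj (eq_of_le_of_card_ge ?_ (FFStruct.card_cj a W).ge)
        rintro _ ⟨w, hw, rfl⟩
        show a * w * a⁻¹ ∈ W
        rw [show a * w * a⁻¹ = ⁅a, w⁆ * w by rw [commutatorElement_def]; group]
        exact mul_mem (mem_sup_left (hW2A hA a ha w (hWW2 hw))) hw
      intro x _
      have hx : mk x ∈ (⨆ i, E i) ⊔ (T : Subgroup (X ⧸ C)) := hE.top.ge (mem_top _)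
      rw [hJX, hT, ← Subgroup.map_sup] at hx
      obtain ⟨y, hy, e⟩ := hx
      rw [show x = y * (y⁻¹ * x) by group]
      refine mul_mem_sup ?_ (QuotientGroup.eq.1 e)
      refine (sup_le h1 ?_ : Cfsg.thompsonSubgroup p X ⊔ (S : Subgroup X) ≤ normalizer (W : Set X)) hy
      intro s hs
      refine FFStruct.mem_normalizer_of_cj ?_
      show (V ⊔ Y).map _ = V ⊔ Y
      rw [Subgroup.map_sup]
      congr 1
      · exact FFStruct.cj_of_mem_normalizer (by rw [normalizer_eq_top_iff.2 hVn]; exact mem_top s)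
      · refine FFStruct.cj_of_mem_normalizer ?_
        have hch : (Y.subgroupOf (S : Subgroup X)).Characteristic :=
          char_of_natural (F := fun {_} [_] Z => Cfsg.omegaOne p (Cfsg.centerThompsonOf p Z))
            (fun f hf Z => by
              rw [Thompson.omegaOne_map_of_injective hf, Cfsg.centerThompsonOf, Cfsg.centerThompsonOf,
                map_inf_centralizer hf, Thompson.thompsonOf_map_of_injective hf]) _
        exact (normal_subgroupOf_iff_le_normalizer hYS).1 inferInstance hs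
  set Q0 := Q ⊓ centralizer (Y : Set X) with hQ0
  have hQ0W : Q0 = Q ⊓ centralizer (W : Set X) := by
    refine le_antisymm (le_inf inf_le_left ?_) (le_inf inf_le_left (inf_le_right.trans
      (centralizer_le (le_sup_right (a := V)))))
    rw [hW, Thompson.centralizer_sup]
    exact le_inf (inf_le_left.trans hQC) inf_le_right
  have hQ0n : Q0.Normal := by
    haveI := hWn
    rw [hQ0W]; infer_instance
  have hYQ : Y ≤ Q := hYW2.trans ((hW2le hA1.1 hA1.2).trans hA1.2)
  have hVY : V ≤ centralizer (Y : Set X) := le_centralizer_iff.1 (hYQ.trans hQC)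
  have hVQ0 : V ≤ Q0 := le_inf hVleQ hVY
  have hYY : Y ≤ centralizer (Y : Set X) := hYW2.trans (hW2comm.trans (centralizer_le hYW2))
  -- images
  have hJP : Js.map mk = P := by
    refine le_antisymm ?_ ?_
    · rw [map_le_iff_le_comap]
      refine Thompson.thompsonOf_le_iff.2 fun A hA hAe hAm => map_le_iff_le_comap.1 ?_
      exact (hoff (hmax hA hAe hAm) hA).1
    · obtain ⟨i₀, A, hAm, hAS, a, ha, hne⟩ : ∃ i₀, ∃ (A : Subgroup X)
          (hAm : A ∈ Cfsg.maxElementaryAbelianSubgroups p X) (hAS : A ≤ (S : Subgroup X)),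
          ∃ a, ∃ (ha : a ∈ A.map mk), hE.pr i₀ ⟨a, ((hoff hAm hAS).1 ha).2⟩ ≠ 1 := by
        by_contra hcon
        push Not at hcon
        have hall : Cfsg.thompsonSubgroup p X ≤ C := by
          refine sSup_le fun A hA => ?_
          obtain ⟨S', hS'⟩ := (Thompson.ea_isPGroup hA.1).exists_le_sylow
          obtain ⟨g, hg⟩ := MulAction.exists_smul_eq X S' S
          have hA'm := Thompson.maxEA_map_equiv (MulAut.conj g) hA
          have hA'S : A.map (MulAut.conj g).toMonoidHom ≤ (S : Subgroup X) := by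
            rw [← hg, Sylow.coe_subgroup_smul]; exact map_mono hS'
          intro a ha
          have ha' : g * a * g⁻¹ ∈ A.map (MulAut.conj g).toMonoidHom := ⟨a, ha, rfl⟩
          have h1 : mk (g * a * g⁻¹) = 1 := congrArg Subtype.val
            (hE.eq_one_of_pr (x := (⟨mk (g * a * g⁻¹), ((hoff hA'm hA'S).1 ⟨_, ha', rfl⟩).2⟩ :
              ↥(⨆ j, E j))) fun i => hcon i _ hA'm hA'S _ ⟨_, ha', rfl⟩)
          have h2 := hCn.conj_mem _ ((QuotientGroup.eq_one_iff _).1 h1) g⁻¹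
          simpa [mul_assoc] using h2
        have hr : 0 < r := hE.pos
        refine (hE.local_data hp2 ⟨0, hr⟩).1 (le_bot_iff.1 (inf_le_right.trans ?_))
        refine (le_iSup E _).trans ?_
        rw [hJX, map_le_iff_le_comap, MonoidHom.comap_bot, QuotientGroup.ker_mk']
        exact hall
      have hcomp : ∀ j, (T : Subgroup (X ⧸ C)) ⊓ E j ≤ Js.map mk := by
        intro j
        obtain ⟨t, ht, et⟩ := hE.trans i₀ j
        obtain ⟨s, hs, rfl⟩ : t ∈ (S : Subgroup X).map mk := hT ▸ ht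
        have hsm := Thompson.maxEA_map_equiv (MulAut.conj s) hAm
        have hsS : A.map (MulAut.conj s).toMonoidHom ≤ (S : Subgroup X) :=
          (map_mono hAS).trans (FFStruct.cj_of_mem_normalizer (le_normalizer hs)).le
        have h1 := hE.le_offender hpV hp2 (hoff hAm hAS).1 (hoff hAm hAS).2.1 ha hne
        intro x hx
        have hx' : (mk s)⁻¹ * x * mk s ∈ (T : Subgroup (X ⧸ C)) ⊓ E i₀ := by
          refine ⟨(T : Subgroup (X ⧸ C)).mul_mem ((T : Subgroup (X ⧸ C)).mul_mem ((T : Subgroup (X ⧸ C)).inv_mem (hT.ge ⟨s, hs, rfl⟩)) hx.1) (hT.ge ⟨s, hs, rfl⟩), ?_⟩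
          have h2 : x ∈ FFStruct.cj (mk s) (E i₀) := et.ge hx.2
          rwa [FFStruct.mem_cj] at h2
        obtain ⟨b, hb, e⟩ := h1 hx'
        refine ⟨s * b * s⁻¹, hAJ hsm hsS ⟨b, hb, rfl⟩, ?_⟩
        rw [map_mul, map_mul, map_inv, e]; group
      intro x hx
      have key : ∀ sf : Finset (Fin r), ∀ y : ↥(⨆ j, E j), (y : X ⧸ C) ∈ (T : Subgroup (X ⧸ C)) →
          (∀ j, j ∉ sf → hE.pr j y = 1) → (y : X ⧸ C) ∈ Js.map mk := by
        intro sf
        induction sf using Finset.induction_on with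
        | empty =>
          intro y _ hy
          rw [hE.eq_one_of_pr fun j => hy j (Finset.notMem_empty j)]
          exact one_mem _
        | @insert k sf _ ih =>
          intro y hyT hy
          set e := hE.pr k y with he
          have heT : (e : X ⧸ C) ∈ (T : Subgroup (X ⧸ C)) := hE.pr_mem k y hyT
          have h1 : ((((⟨(e : X ⧸ C), le_iSup E k e.2⟩ : ↥(⨆ j, E j))⁻¹ * y : ↥(⨆ j, E j))) : X ⧸ C) ∈ Js.map mk := by
            refine ih _ ((T : Subgroup (X ⧸ C)).mul_mem ((T : Subgroup (X ⧸ C)).inv_mem heT) hyT) fun j hj => ?_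
            rw [map_mul, map_inv]
            rcases eq_or_ne j k with rfl | hjk
            · rw [hE.pr_self j e.2]; exact inv_mul_cancel e
            · rw [hy j (by simp [hj, hjk]), mul_one, inv_eq_one]
              refine Subtype.ext ((hE.pr_eq_iff (one_mem _)).2 fun v => ?_)
              rw [one_smul]
              exact hE.cross k j (Ne.symm hjk) (FFStruct.dm_mem_cm e.2 v)
          have h2 := mul_mem (hcomp k ⟨heT, e.2⟩) h1
          simpa using h2
      exact key Finset.univ ⟨x, hx.2⟩ hx.1 fun j hj => absurd (Finset.mem_univ j) hj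
  -- fixed points of `P` lie in `Y`
  have hfixY : ∀ v : Additive ↥V, v ∈ FFStruct.fx P → ((Additive.toMul v : ↥V) : X) ∈ Y := by
    intro v hv
    set x : X := ((Additive.toMul v : ↥V) : X) with hx
    have hxV : x ∈ V := (Additive.toMul v).2
    have hxp : x ^ p = 1 := (Thompson.ea_iff.1 hVea).2 x hxV
    have hcen : x ∈ centralizer (Js : Set X) := by
      refine mem_centralizer_iff.2 fun a ha => ?_
      have h1 := congrArg (fun w : Additive ↥V => ((Additive.toMul w : ↥V) : X))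
        (hv _ (hJP.le ⟨a, ha, rfl⟩))
      have h2 : a * x * a⁻¹ = x := (hc ⟨a, mem_top a⟩ v).symm.trans h1
      exact mul_inv_eq_iff_eq_mul.1 h2
    refine Thompson.mem_omegaOne ⟨?_, hcen⟩ hxp
    obtain ⟨A, hA⟩ := Thompson.exists_maxEA p X
    obtain ⟨S', hS'⟩ := (Thompson.ea_isPGroup hA.1).exists_le_sylow
    obtain ⟨g, hg⟩ := MulAction.exists_smul_eq X S' S
    have hA' := Thompson.maxEA_map_equiv (MulAut.conj g) hA
    have hA'S : A.map (MulAut.conj g).toMonoidHom ≤ (S : Subgroup X) := by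
      rw [← hg, Sylow.coe_subgroup_smul]; exact map_mono hS'
    set A' := A.map (MulAut.conj g).toMonoidHom
    have hcm : A' ≤ centralizer (zpowers x : Set X) := by
      rw [le_centralizer_iff, zpowers_le]
      exact centralizer_le (hAJ hA' hA'S) hcen
    have hle := hA'.2 _ (Thompson.ea_sup hA'.1 (Thompson.ea_zpowers hxp) hcm)
    refine hAJ hA' hA'S ?_
    rw [eq_of_le_of_card_ge (le_sup_left : A' ≤ A' ⊔ zpowers x) hle]
    exact mem_sup_right (mem_zpowers x)
  have hBimg : B.map mk ≤ P := by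
    rintro _ ⟨s, hs, rfl⟩
    refine ⟨hT.ge ⟨s, hs.1, rfl⟩, hE.mem_of_fix hpV hp2 hOp (hT.ge ⟨s, hs.1, rfl⟩) fun v hv => ?_⟩
    refine Additive.toMul.injective (Subtype.ext ((hc ⟨s, mem_top s⟩ v).trans ?_))
    show s * _ * s⁻¹ = _
    rw [← mem_centralizer_iff.1 hs.2 _ (hfixY v hv), mul_inv_cancel_right]
  have hJB : Js ≤ B := le_inf (Thompson.thompsonOf_le p _) (le_centralizer_iff.1 hYJ)
  have hQ0B : Q0 ≤ B := le_inf (inf_le_left.trans hQS) inf_le_right
  -- the opposite subgroup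
  obtain ⟨gb, hgb, hgen, hspan⟩ := hE.exists_opposite hpV hp2
  obtain ⟨g, rfl⟩ := hmks gb
  let Y' := FFStruct.cj g Y
  let Z0 := Y ⊓ Y'
  have hWZ : W ≤ V ⊔ Z0 := by
    set D0 := V ⊓ Y with hD0
    have hcjV : FFStruct.cj g V = V :=
      FFStruct.cj_of_mem_normalizer (by rw [normalizer_eq_top_iff.2 hVn]; exact mem_top g)
    have hD0' : FFStruct.cj g D0 = V ⊓ Y' := by
      show (V ⊓ Y).map _ = _
      rw [map_inf _ _ _ (MulAut.conj g).injective]
      exact congrArg (fun U => U ⊓ Y') hcjV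
    have hVD : V ≤ D0 ⊔ (V ⊓ Y') := by
      intro x hx
      obtain ⟨u, hu, w, hw, e⟩ := AddSubgroup.mem_sup.1
        (hspan.ge (AddSubgroup.mem_top (Additive.ofMul (⟨x, hx⟩ : ↥V))))
      have hu' := hfixY u hu
      have hw' : ((Additive.toMul w : ↥V) : X) ∈ Y' := by
        rw [FFStruct.fx_cj, FFStruct.mem_sm, ← map_inv] at hw
        have h1 := hfixY _ hw
        have h2 : ((Additive.toMul (mk g⁻¹ • w) : ↥V) : X) = g⁻¹ * ((Additive.toMul w : ↥V) : X) * g := by
          refine (hc ⟨g⁻¹, mem_top _⟩ w).trans ?_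
          rw [inv_inv]
        rw [h2] at h1
        exact FFStruct.mem_cj.2 h1
      have hxe : x = ((Additive.toMul u : ↥V) : X) * ((Additive.toMul w : ↥V) : X) :=
        (congrArg (fun z : Additive ↥V => ((Additive.toMul z : ↥V) : X)) e).symm
      rw [hxe]
      exact mul_mem_sup ⟨(Additive.toMul u).2, hu'⟩ ⟨(Additive.toMul w).2, hw'⟩
    have hY'W : Y' ≤ W := (FFStruct.cj_mono g (le_sup_right : Y ≤ W)).trans
      (FFStruct.cj_of_mem_normalizer (by rw [normalizer_eq_top_iff.2 hWn]; exact mem_top g)).le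
    have hWc : W ≤ centralizer (W : Set X) := hWW2.trans (hW2comm.trans (centralizer_le hWW2))
    have e1 := Thompson.card_sup_mul_card_inf_of_comm hVY
    have e2 := Thompson.card_sup_mul_card_inf_of_comm
      ((le_sup_right : Y ≤ W).trans (hWc.trans (centralizer_le hY'W)))
    have e3 := Thompson.card_sup_mul_card_inf_of_comm (X := V) (Y := Z0)
      (hVY.trans (centralizer_le inf_le_left))
    have e4 := Thompson.card_sup_mul_card_inf_of_comm (X := D0) (Y := V ⊓ Y')
      (inf_le_left.trans ((Thompson.ea_iff.1 hVea).1.trans (centralizer_le inf_le_left)))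
    have hsup : D0 ⊔ (V ⊓ Y') = V := le_antisymm (sup_le inf_le_left inf_le_left) hVD
    have hinf : D0 ⊓ (V ⊓ Y') = V ⊓ Z0 := by
      rw [hD0]
      exact le_antisymm (le_inf (inf_le_left.trans inf_le_left)
        (le_inf (inf_le_left.trans inf_le_right) (inf_le_right.trans inf_le_right)))
        (le_inf (le_inf inf_le_left (inf_le_right.trans inf_le_left))
          (le_inf inf_le_left (inf_le_right.trans inf_le_right)))
    rw [hsup, hinf, ← hD0', FFStruct.card_cj] at e4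
    have hYY' : Nat.card (Y ⊔ Y' : Subgroup X) ≤ Nat.card W :=
      Subgroup.card_le_of_le (sup_le le_sup_right hY'W)
    have hY'c : Nat.card Y' = Nat.card Y := FFStruct.card_cj g Y
    rw [hY'c] at e2
    refine (eq_of_le_of_card_ge (sup_le le_sup_left ((inf_le_left).trans le_sup_right)) ?_).ge
    refine Nat.le_of_mul_le_mul_left (c := Nat.card W * (Nat.card D0 * Nat.card D0)) ?_
      (Nat.mul_pos Nat.card_pos (Nat.mul_pos Nat.card_pos Nat.card_pos))
    calc Nat.card W * (Nat.card D0 * Nat.card D0) * Nat.card W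
        = (Nat.card W * Nat.card D0) * (Nat.card W * Nat.card D0) := by ring
      _ = Nat.card V * Nat.card V * (Nat.card Y * Nat.card Y) := by rw [hW, hD0, e1]; ring
      _ ≤ Nat.card V * Nat.card V * (Nat.card W * Nat.card Z0) := by
          refine Nat.mul_le_mul_left _ ?_
          rw [← e2]
          exact Nat.mul_le_mul_right _ hYY'
      _ = Nat.card W * (Nat.card V * (Nat.card V * Nat.card Z0)) := by ring
      _ = Nat.card W * (Nat.card D0 * Nat.card D0) * Nat.card (V ⊔ Z0 : Subgroup X) := by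
          rw [← e3, ← e4]; ring
  set L := Js ⊔ FFStruct.cj g Js with hL
  have hLZ : L ≤ centralizer (Z0 : Set X) := by
    refine sup_le ((le_centralizer_iff.1 hYJ).trans (centralizer_le inf_le_left)) ?_
    exact (FFStruct.cj_le_centralizer (le_centralizer_iff.1 hYJ)).trans (centralizer_le inf_le_right)
  have hLQ : L ⊓ Q ≤ Q0 := by
    rw [hQ0W]
    refine le_inf inf_le_right (le_trans ?_ (centralizer_le hWZ))
    rw [Thompson.centralizer_sup]
    exact le_inf (inf_le_right.trans hQC) (inf_le_left.trans hLZ)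
  set X0 := L ⊔ Q0 with hX0
  have hX0img : X0.map mk = ⨆ i, E i := by
    rw [hX0, hL, Subgroup.map_sup, Subgroup.map_sup]
    have h1 : (FFStruct.cj g Js).map mk = FFStruct.cj (mk g) P := by
      rw [← hJP]
      show (Js.map _).map mk = (Js.map mk).map _
      rw [Subgroup.map_map, Subgroup.map_map]
      congr 1
    rw [h1, hJP, show Q0.map mk = ⊥ from le_bot_iff.1 (by
      rw [map_le_iff_le_comap, MonoidHom.comap_bot, QuotientGroup.ker_mk']
      exact inf_le_left.trans hQC), sup_bot_eq]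
    exact hgen
  have hX0Q : X0 ⊓ Q ≤ Q0 := by
    haveI := hQ0n
    rintro x ⟨hx, hxQ⟩
    obtain ⟨l, hl, q, hq, rfl⟩ := mem_sup_of_normal_right.1 hx
    refine mul_mem (hLQ ⟨hl, ?_⟩) hq
    simpa using Q.mul_mem hxQ (Q.inv_mem hq.1)
  have hBX0 : B ≤ X0 := by
    intro b hb
    obtain ⟨j, hj, e⟩ : mk b ∈ Js.map mk := hJP ▸ hBimg ⟨b, hb, rfl⟩
    rw [show b = j * (j⁻¹ * b) by group]
    refine mul_mem_sup (mem_sup_left hj) ⟨?_, ?_⟩
    · exact hSC ⟨(S : Subgroup X).mul_mem ((S : Subgroup X).inv_mem (Thompson.thompsonOf_le p _ hj)) hb.1, QuotientGroup.eq.1 e⟩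
    · exact (centralizer _).mul_mem ((centralizer _).inv_mem (hJB hj).2) hb.2
  have hPB : P ≤ B.map mk := hJP ▸ map_mono hJB
  have hBidx : ¬ p ∣ (B.subgroupOf X0).index := by
    obtain ⟨R, hR⟩ := ((S.2.to_le inf_le_left : IsPGroup p B).comap_of_injective X0.subtype
      X0.subtype_injective).exists_le_sylow
    have hRB : (R : Subgroup ↥X0) ≤ B.subgroupOf X0 := by
      intro x hx
      set U := ((R : Subgroup ↥X0).map X0.subtype).map mk with hU
      have hUp : IsPGroup p U := (R.2.map _).map _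
      have hUE : U ≤ ⨆ i, E i := by
        rw [← hX0img]; exact map_mono (map_subtype_le _)
      haveI := hE.normal
      obtain ⟨R', hR'⟩ := Cfsg.Agent.SylowNumber.exists_sylow_inf T (⨆ i, E i)
      have hPU : P ≤ U := hPB.trans (by
        rintro _ ⟨b, hb, rfl⟩
        exact ⟨b, ⟨⟨b, hBX0 hb⟩, hR hb, rfl⟩, rfl⟩)
      have h1 : U.subgroupOf (⨆ i, E i) = (R' : Subgroup _) :=
        R'.is_maximal' (hUp.comap_of_injective (⨆ i, E i).subtype Subtype.val_injective)
          (hR'.le.trans (comap_mono hPU))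
      have hxU : mk (x : X) ∈ U := ⟨x, ⟨x, hx, rfl⟩, rfl⟩
      have h2 : mk (x : X) ∈ P := by
        have h3 : (⟨mk (x : X), hUE hxU⟩ : ↥(⨆ i, E i)) ∈ (R' : Subgroup _) := h1.le hxU
        exact hR'.le h3
      obtain ⟨b, hb, e⟩ := hPB h2
      have hc' : b⁻¹ * (x : X) ∈ C := QuotientGroup.eq.1 e
      have hbx : b⁻¹ * (x : X) ∈ ((R : Subgroup ↥X0).map X0.subtype) ⊓ C :=
        ⟨Subgroup.mul_mem _ (Subgroup.inv_mem _ ⟨⟨b, hBX0 hb⟩, hR hb, rfl⟩) ⟨x, hx, rfl⟩, hc'⟩
      have hq : b⁻¹ * (x : X) ∈ Q0 := hX0Q ⟨map_subtype_le _ hbx.1,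
        hpC _ ((R.2.map _).to_le inf_le_left) inf_le_right hbx⟩
      show (x : X) ∈ B
      rw [show (x : X) = b * (b⁻¹ * x) by group]
      exact mul_mem hb (hQ0B hq)
    rw [← le_antisymm hRB hR]
    exact R.not_dvd_index
  have hmodK : ∀ i, ∃ (K : Type) (_ : Field K) (_ : Fintype K),
      (∃ n : ℕ, 1 ≤ n ∧ Fintype.card K = p ^ n) ∧ Nonempty (↥(E i) ≃* SL(2, K)) := fun i => by
    obtain ⟨n, hn, ⟨K, i1, i2, hK, ρ, -⟩ | ⟨h2, -⟩⟩ := hE.mod i
    · exact ⟨K, i1, i2, ⟨n, hn, hK⟩, ⟨ρ⟩⟩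
    · exact absurd h2 hp2
  choose K fK finK hK ρ using hmodK
  let mk0 : ↥X0 →* ↥(⨆ i, E i) :=
    (mk.comp X0.subtype).codRestrict _ fun x => hX0img.le ⟨x, x.2, rfl⟩
  let φ : ∀ i, ↥X0 →* SL(2, K i) := fun i => (ρ i).some.toMonoidHom.comp ((hE.pr i).comp mk0)
  refine ⟨{ r := r, F := K, fld := fK, fin := finK, card_F := hK, V := V, Q0 := Q0, X0 := X0,
            φ := φ, pos := hE.pos, hV := hVn, hQ0 := hQ0n, VQ0 := hVQ0, Q0Q := inf_le_left,
            VQ := hVQ, cQ0 := ?_, BX0 := hBX0, Q0B := hQ0B, Bidx := hBidx, X0Q := hX0Q,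
            pC := hpC, comm := ?_, quad := ?_, joint := ?_, ker := ?_, gen := ?_, BnQ := ?_ }⟩
  · exact le_inf inf_le_left (inf_le_right.trans (centralizer_le (le_inf hYQ hYY)))
  · intro g hg q hq
    refine ⟨?_, ?_⟩
    · rw [commutatorElement_def, show q * g * q⁻¹ * g⁻¹ = q * (g * q⁻¹ * g⁻¹) by group]
      exact mul_mem hq (hQn.conj_mem _ (inv_mem hq) g)
    · refine mem_centralizer_iff.2 fun y hy => ?_
      have hch : (Y.subgroupOf (S : Subgroup X)).Characteristic :=
        char_of_natural (F := fun {_} [_] Z => Cfsg.omegaOne p (Cfsg.centerThompsonOf p Z))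
          (fun f hf Z => by
            rw [Thompson.omegaOne_map_of_injective hf, Cfsg.centerThompsonOf, Cfsg.centerThompsonOf,
              map_inf_centralizer hf, Thompson.thompsonOf_map_of_injective hf]) _
      have hqN : q ∈ normalizer (Y : Set X) :=
        (normal_subgroupOf_iff_le_normalizer hYS).1 inferInstance (hQS hq)
      have hy' : q⁻¹ * y * q ∈ Y := by
        simpa using (mem_normalizer_iff.1 (inv_mem hqN) y).1 hy
      have hgy : ∀ z ∈ Y, g * z * g⁻¹ = z := fun z hz => by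
        rw [← mem_centralizer_iff.1 hg.2 z hz, mul_inv_cancel_right]
      have h1 : ⁅q, g⁆ * y * ⁅q, g⁆⁻¹ = y := by
        rw [show ⁅q, g⁆ * y * ⁅q, g⁆⁻¹ = q * (g * (q⁻¹ * (g⁻¹ * y * g) * q) * g⁻¹) * q⁻¹ by
          rw [commutatorElement_def]; group]
        have e1 : g⁻¹ * y * g = y := by
          have := hgy y hy
          calc g⁻¹ * y * g = g⁻¹ * (g * y * g⁻¹) * g := by rw [this]
            _ = y := by group
        rw [e1, hgy _ hy']
        group
      exact (mul_inv_eq_iff_eq_mul.1 h1).symm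
  · intro g hg v hv
    have hgP := hBimg ⟨g, hg, rfl⟩
    have hu : ∀ u : Additive ↥V, mk g • FFStruct.dm (mk g) u = FFStruct.dm (mk g) u := by
      intro u
      refine ((hE.mem_fx_iff_comp hpV hp2).2 fun i => ?_) (mk g) hgP
      have h1 := (hE.local_data hp2 i).2.1 _
        ⟨hE.pr_mem i ⟨mk g, hgP.2⟩ hgP.1, (hE.pr i ⟨mk g, hgP.2⟩).2⟩ u
      have h2 := AddSubgroup.add_mem _ (hE.fxMod_ge i _ inf_le_right (hE.pr_spec i ⟨mk g, hgP.2⟩ u)) h1
      rw [FFStruct.dm_apply, sub_add_sub_cancel] at h2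
      exact h2
    set u : Additive ↥V := Additive.ofMul (⟨v, hv⟩ : ↥V) with hud
    have h3 : ((Additive.toMul (FFStruct.dm (mk g) u) : ↥V) : X) = g * v * g⁻¹ * v⁻¹ := by
      rw [FFStruct.dm_apply, toMul_sub, Subgroup.coe_div, div_eq_mul_inv]
      exact congrArg (· * v⁻¹) (hc ⟨g, mem_top g⟩ u)
    have h4 : g * (g * v * g⁻¹ * v⁻¹) * g⁻¹ = g * v * g⁻¹ * v⁻¹ := by
      rw [← h3]
      exact (hc ⟨g, mem_top g⟩ _).symm.trans
        (congrArg (fun z : Additive ↥V => ((Additive.toMul z : ↥V) : X)) (hu u))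
    rw [commutatorElement_eq_one_iff_mul_comm, show ⁅v, g⁆ = (g * v * g⁻¹ * v⁻¹)⁻¹ by
      rw [commutatorElement_def]; group]
    exact ((show Commute g (g * v * g⁻¹ * v⁻¹) from mul_inv_eq_iff_eq_mul.1 h4).inv_right).eq.symm
  · intro f
    obtain ⟨x, hx, hxv⟩ := hE.glue (fun i => ((ρ i).some.symm (f i) : X ⧸ C))
      fun i => ((ρ i).some.symm (f i)).2
    obtain ⟨y, hy, e⟩ : x ∈ X0.map mk := hX0img.ge hx
    refine ⟨⟨y, hy⟩, fun i => ?_⟩
    show (ρ i).some (hE.pr i (mk0 ⟨y, hy⟩)) = f i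
    rw [show mk0 ⟨y, hy⟩ = (⟨x, hx⟩ : ↥(⨆ j, E j)) from Subtype.ext e,
      show hE.pr i ⟨x, hx⟩ = (ρ i).some.symm (f i) from
        Subtype.ext ((hE.pr_eq_iff ((ρ i).some.symm (f i)).2).2 (hxv i)), MulEquiv.apply_symm_apply]
  · intro x
    constructor
    · intro hx
      have h1 : mk0 x = 1 := hE.eq_one_of_pr fun i =>
        (ρ i).some.injective ((hx i).trans (map_one (ρ i).some).symm)
      exact (QuotientGroup.eq_one_iff _).1 (congrArg Subtype.val h1)
    · intro hx i
      have h1 : mk0 x = 1 := Subtype.ext ((QuotientGroup.eq_one_iff _).2 hx)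
      show (ρ i).some (hE.pr i (mk0 x)) = 1
      rw [h1, map_one, map_one]
  · intro i H hBH hHX hsurj hoth
    have hPH : P ≤ H.map mk := hPB.trans (map_mono hBH)
    have hEi : E i ≤ H.map mk := by
      intro e he
      obtain ⟨x, hxH, hx⟩ := hsurj ((ρ i).some ⟨e, he⟩)
      set y : ↥(⨆ j, E j) := (⟨e, le_iSup E i he⟩ : ↥(⨆ j, E j))⁻¹ * mk0 x with hy
      have hyP : (y : X ⧸ C) ∈ P := by
        refine ⟨hE.mem_of_pr y fun j => ?_, y.2⟩
        rw [hy, map_mul, map_inv]
        rcases eq_or_ne j i with rfl | hj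
        · rw [hE.pr_self j he, show hE.pr j (mk0 x) = ⟨e, he⟩ from (ρ j).some.injective hx,
            inv_mul_cancel]
          exact one_mem _
        · obtain ⟨b, hb, eb⟩ := hoth x hxH j hj
          have he1 : hE.pr j ⟨e, le_iSup E i he⟩ = 1 := Subtype.ext ((hE.pr_eq_iff (one_mem _)).2
            fun v => by rw [one_smul]; exact hE.cross i j (Ne.symm hj) (FFStruct.dm_mem_cm he v))
          rw [he1, inv_one, one_mul, show hE.pr j (mk0 x) = hE.pr j (mk0 b) from (ρ j).some.injective eb.symm]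
          exact hE.pr_mem j _ (hBimg ⟨b, hb, rfl⟩).1
      have h1 : (mk0 x : X ⧸ C) ∈ H.map mk := ⟨x, hxH, rfl⟩
      have h2 := mul_mem h1 (inv_mem (hPH hyP))
      rw [hy] at h2
      simpa using h2
    refine htopM _ le_sup_left (top_le_iff.1 fun x _ => ?_)
    have hE' : ∀ j, E j ≤ ((S : Subgroup X) ⊔ H).map mk := by
      intro j
      obtain ⟨t, ht, et⟩ := hE.trans i j
      have ht' : t ∈ ((S : Subgroup X) ⊔ H).map mk := map_mono le_sup_left (hT.le ht)
      rw [← et]
      rintro _ ⟨e, he, rfl⟩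
      exact mul_mem (mul_mem ht' (map_mono le_sup_right (hEi he))) (inv_mem ht')
    obtain ⟨y, hy, e⟩ : mk x ∈ ((S : Subgroup X) ⊔ H).map mk :=
      (hE.top.ge.trans (sup_le (iSup_le hE') (hT.le.trans (map_mono le_sup_left)))) (mem_top _)
    rw [show x = y * (y⁻¹ * x) by group]
    exact mul_mem_sup hy (QuotientGroup.eq.1 e)
  · intro hle
    have hr : 0 < r := hE.pos
    refine (hE.local_data hp2 ⟨0, hr⟩).1 (le_bot_iff.1 ?_)
    refine (inf_le_inf_left _ (le_iSup E _)).trans (hPB.trans ?_)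
    rw [map_le_iff_le_comap, MonoidHom.comap_bot, QuotientGroup.ker_mk']
    exact hle.trans hQC

end Cfsg.Agent.PushRed
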