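import Cfsg.Agent.PushRed.RankOne
import Cfsg.Agent.KInf.Action
import Cfsg.Agent.Control.Chief
import Cfsg.Agent.PushUp.Cases

/-!
# The elements of the Baumann subgroup are quadratic on every chief factor in `O_p`
-/

set_option autoImplicit false
set_option linter.unusedSectionVars false
set_option linter.style.haveILetI false

namespace Cfsg.Agent.PushRed

open Subgroup
open scoped Pointwise commutatorElement MatrixGroups

universe u

variable {p : ℕ} [hpf : Fact p.Prime]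

theorem mem_of_sq_mem {G : Type*} [Group G] (hp : p ≠ 2) {L : Subgroup G} {a : G} {s : ℕ}
    (ha : a ^ p ^ s = 1) (h : a * a ∈ L) : a ∈ L := by
  have hc : Nat.Coprime 2 (orderOf a) :=
    Nat.Coprime.coprime_dvd_right (orderOf_dvd_of_pow_eq_one ha)
      (((Nat.coprime_primes Nat.prime_two hpf.out).2 (Ne.symm hp)).pow_right s)
  obtain ⟨k, hk⟩ := exists_pow_eq_self_of_coprime hc
  rw [← hk, sq]
  exact L.pow_mem h k

section Section

variable {G : Type*} [Group G] [Finite G] {U : Subgroup G}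

/-- `δ_g a = g a g⁻¹ a⁻¹` -/
def dl (g a : G) : G := g * a * g⁻¹ * a⁻¹

theorem dl_mem [hU : U.Normal] (g : G) {a : G} (ha : a ∈ U) : dl g a ∈ U :=
  U.mul_mem (hU.conj_mem a ha g) (U.inv_mem ha)

theorem dl_mul [hU : U.Normal] (hab : ∀ a ∈ U, ∀ b ∈ U, a * b = b * a) (g : G) {a b : G}
    (ha : a ∈ U) (hb : b ∈ U) : dl g (a * b) = dl g a * dl g b := by
  have e : a⁻¹ * dl g b = dl g b * a⁻¹ := hab _ (U.inv_mem ha) _ (dl_mem g hb)
  calc dl g (a * b) = g * a * g⁻¹ * (dl g b * a⁻¹) := by simp only [dl]; group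
    _ = g * a * g⁻¹ * (a⁻¹ * dl g b) := by rw [e]
    _ = dl g a * dl g b := by simp only [dl]; group

theorem dl_conj (g s a : G) : dl g (s * a * s⁻¹) = s * dl (s⁻¹ * g * s) a * s⁻¹ := by
  simp only [dl]; group

theorem map_dl {H : Type*} [Group H] (f : G →* H) (g a : G) : f (dl g a) = dl (f g) (f a) := by
  simp [dl]

theorem dl_eq_one {g a : G} : dl g a = 1 ↔ g * a * g⁻¹ = a := mul_inv_eq_one

/-- Elements commuting with a fixed commutator are killed: the coprime step. -/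
theorem dl_eq_one_of_fix [hU : U.Normal] (hab : ∀ a ∈ U, ∀ b ∈ U, a * b = b * a)
    (hp : IsPGroup p U) {y a : G} (hy : ¬ p ∣ orderOf y) (ha : a ∈ U)
    (h : y * dl y a * y⁻¹ = dl y a) : dl y a = 1 := by
  have hpow : ∀ n : ℕ, y ^ n * a * (y ^ n)⁻¹ = dl y a ^ n * a := by
    intro n
    induction n with
    | zero => simp
    | succ n hn =>
      rw [pow_succ', mul_inv_rev,
        show y * y ^ n * a * ((y ^ n)⁻¹ * y⁻¹) = y * (y ^ n * a * (y ^ n)⁻¹) * y⁻¹ by group, hn,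
        show y * (dl y a ^ n * a) * y⁻¹ = (y * dl y a * y⁻¹) ^ n * (y * a * y⁻¹) by
          rw [conj_pow]; group,
        h, show y * a * y⁻¹ = dl y a * a by simp only [dl]; group, pow_succ, mul_assoc]
  have hm := hpow (orderOf y)
  rw [pow_orderOf_eq_one, one_mul, inv_one, mul_one, right_eq_mul] at hm
  obtain ⟨s, hs⟩ := hp ⟨_, dl_mem y ha⟩
  exact orderOf_eq_one_iff.1 (Nat.eq_one_of_dvd_coprimes
    (((Nat.Prime.coprime_iff_not_dvd hpf.out).2 hy).symm.pow_right s) (orderOf_dvd_of_pow_eq_one hm)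
    (orderOf_dvd_of_pow_eq_one (congrArg Subtype.val hs)))

end Section

variable {X : Type u} [Group X] [Finite X] {S : Sylow p X} {M : Subgroup X}

/-- The main step: an irreducible section `U/W` between `V` and `Q₀`. -/
theorem quad_core (h : Cfg p S M) (b : BData p S) (D : Datum S b) {U W : Subgroup X} [hUn : U.Normal]
    [hWn : W.Normal] (hVW : b.V ≤ W) (hWU : W ≤ U) (hUQ : U ≤ b.Q0)
    (hirr : ∀ N : Subgroup X, N.Normal → W ≤ N → N ≤ U → N = W ∨ N = U)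
    {g : X} (hg : g ∈ Cfsg.baumannSubgroupOf p (S : Subgroup X)) :
    ∀ u ∈ U, dl g (dl g u) ∈ W := by
  classical
  rcases eq_or_lt_of_le hWU with rfl | hlt
  · exact fun u hu => dl_mem g (dl_mem g hu)
  set B := Cfsg.baumannSubgroupOf p (S : Subgroup X) with hBdef
  set Q := Cfsg.pCore p X with hQdef
  haveI hQn : Q.Normal := Core.pCore_normal
  have hQS : Q ≤ (S : Subgroup X) := Core.pCore_le_sylow S
  have hUS : U ≤ (S : Subgroup X) := hUQ.trans (b.Q0Q.trans hQS)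
  let π := QuotientGroup.mk' W
  have hπ : Function.Surjective π := QuotientGroup.mk'_surjective W
  let Ub := U.map π
  haveI hUbn : Ub.Normal := hUn.map π hπ
  have hker : π.ker = W := QuotientGroup.ker_mk' W
  have hUbU : Ub.comap π = U := by rw [comap_map_eq, hker, sup_eq_left.2 hWU]
  have hUbp : IsPGroup p Ub := (S.2.to_le hUS).map π
  -- `Q` centralises the section
  have hQU : ∀ q ∈ Q, ∀ a ∈ Ub, π q * a = a * π q := by
    obtain ⟨u, hu, huW⟩ := PushUp.exists_fix_notMem (S.2.to_le hQS) hlt (hUQ.trans b.Q0Q)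
    haveI := PushUp.fix_normal (Q := Q) (U := U) (W := W)
    have hW : W ≤ PushUp.fix Q U W := fun w hw => ⟨hWU hw, fun s _ => by
      rw [commutatorElement_def]
      exact mul_mem (hWn.conj_mem w hw s) (inv_mem hw)⟩
    have e : PushUp.fix Q U W = U :=
      (hirr _ inferInstance hW fun x hx => hx.1).resolve_left fun e => huW (e ▸ hu)
    rintro q hq _ ⟨a, ha, rfl⟩
    have h1 := (QuotientGroup.eq_one_iff _).2 ((e.ge ha : a ∈ PushUp.fix Q U W).2 q hq)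
    change π ⁅q, a⁆ = 1 at h1
    rw [map_commutatorElement] at h1
    exact commutatorElement_eq_one_iff_mul_comm.1 h1
  have hab : ∀ a ∈ Ub, ∀ c ∈ Ub, a * c = c * a := by
    rintro _ ⟨a, ha, rfl⟩ c hc
    exact hQU a (b.Q0Q (hUQ ha)) c hc
  have hpow : ∀ a ∈ Ub, ∃ s : ℕ, a ^ p ^ s = 1 := fun a ha =>
    (hUbp ⟨a, ha⟩).imp fun s hs => congrArg Subtype.val hs
  set ζ := π D.z with hζ
  have hζ2 : ζ * ζ = 1 := by rw [hζ, ← map_mul, D.z2, map_one]
  have hζi : ζ⁻¹ = ζ := inv_eq_of_mul_eq_one_right hζ2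
  have hzp : ¬ p ∣ orderOf D.z := fun hd => by
    have h1 : orderOf D.z ∣ 2 := orderOf_dvd_of_pow_eq_one (by rw [sq]; exact D.z2)
    exact h.hp2 ((Nat.prime_dvd_prime_iff_eq hpf.out Nat.prime_two).1 (hd.trans h1))
  -- `H` commutes with `ζ` on the section
  have hHζ : ∀ y ∈ D.H, ∀ a ∈ Ub, ζ * (π y * a * (π y)⁻¹) * ζ⁻¹ = π y * (ζ * a * ζ⁻¹) * (π y)⁻¹ := by
    intro y hy a ha
    set c := π (D.z * y * D.z⁻¹ * y⁻¹) with hc
    have e1 : ζ * π y = c * (π y * ζ) := by rw [hc, hζ]; simp only [map_mul, map_inv]; group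
    have hmem : π y * (ζ * a * ζ⁻¹) * (π y)⁻¹ ∈ Ub := hUbn.conj_mem _ (hUbn.conj_mem a ha _) _
    calc ζ * (π y * a * (π y)⁻¹) * ζ⁻¹ = (ζ * π y) * a * (ζ * π y)⁻¹ := by group
      _ = c * (π y * (ζ * a * ζ⁻¹) * (π y)⁻¹) * c⁻¹ := by rw [e1]; group
      _ = _ := by rw [hQU _ (D.zc y hy) _ hmem, mul_inv_cancel_right]
  let N : Subgroup (X ⧸ W) :=
    { carrier := {a | a ∈ Ub ∧ ζ * a * ζ⁻¹ = a⁻¹}
      one_mem' := ⟨one_mem _, by simp⟩
      mul_mem' := fun {a c} ha hc => ⟨mul_mem ha.1 hc.1, by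
        rw [show ζ * (a * c) * ζ⁻¹ = (ζ * a * ζ⁻¹) * (ζ * c * ζ⁻¹) by group, ha.2, hc.2,
          hab a ha.1 c hc.1, mul_inv_rev]⟩
      inv_mem' := fun {a} ha => ⟨inv_mem ha.1, by
        rw [show ζ * a⁻¹ * ζ⁻¹ = (ζ * a * ζ⁻¹)⁻¹ by group, ha.2]⟩ }
  have hN : ∀ {a}, a ∈ N ↔ a ∈ Ub ∧ ζ * a * ζ⁻¹ = a⁻¹ := Iff.rfl
  have hNU : N ≤ Ub := fun a ha => ha.1
  have hNsq : ∀ {a}, a ∈ N → dl ζ a = (a * a)⁻¹ := fun {a} ha => by
    rw [dl, ha.2, mul_inv_rev]
  let P : Subgroup X → Subgroup (X ⧸ W) := fun A => (A ⊓ U).map π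
  have hPU : ∀ A, P A ≤ Ub := fun A => map_mono inf_le_right
  have hdlP : ∀ {A A' : Subgroup X} {y : X}, (∀ u ∈ A, y * u * y⁻¹ * u⁻¹ ∈ A') →
      ∀ a ∈ P A, dl (π y) a ∈ P A' := by
    rintro A A' y hA _ ⟨u, hu, rfl⟩
    exact ⟨dl y u, ⟨hA u hu.1, dl_mem y hu.2⟩, map_dl π y u⟩
  have hnegP : ∀ {A A' : Subgroup X}, (∀ u ∈ A, D.z * u * D.z⁻¹ * u ∈ A') →
      ∀ a ∈ P A, ζ * a * ζ⁻¹ * a ∈ P A' := by
    rintro A A' hA _ ⟨u, hu, rfl⟩
    exact ⟨D.z * u * D.z⁻¹ * u, ⟨hA u hu.1, U.mul_mem (hUn.conj_mem u hu.2 _) hu.2⟩,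
      by rw [hζ]; simp⟩
  have hR3 : ∀ y ∈ D.H, ¬ p ∣ orderOf y → ∀ a ∈ Ub, dl (π y) a ∈ P D.A3 := by
    rintro y hy hyp _ ⟨u, hu, rfl⟩
    exact ⟨dl y u, ⟨D.centR y hy hyp u (D.Q0R (hUQ hu)), dl_mem y hu⟩, map_dl π y u⟩
  have hfix0 : ∀ y ∈ D.H, ¬ p ∣ orderOf y → ∀ a ∈ P D.A0, dl (π y) a = 1 := by
    rintro y hy hyp _ ⟨u, hu, rfl⟩
    rw [← map_dl, dl, D.cent0 y hy hyp u hu.1, mul_inv_cancel, map_one]
  have hNP3 : ∀ a ∈ N, a ∈ P D.A3 := fun a ha => by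
    obtain ⟨s, hs⟩ := hpow a ha.1
    refine mem_of_sq_mem h.hp2 hs (inv_mem_iff.1 ?_)
    rw [← hNsq ha]
    exact hR3 D.z D.zH hzp a ha.1
  -- `g` is quadratic on `N`
  have hquadN : ∀ g' ∈ B, ∀ a ∈ N, dl (π g') (dl (π g') a) = 1 := by
    intro g' hg' a ha
    have hNg : ∀ c ∈ N, dl (π g') c ∈ N := fun c hc =>
      N.mul_mem ⟨hUbn.conj_mem c hc.1 _, by
        rw [hHζ g' (D.BH hg') c hc.1, hc.2]; group⟩ (N.inv_mem hc)
    have hdd := hNg _ (hNg a ha)
    have hcov : ∀ {A A' : Subgroup X}, (∀ u ∈ A, ∃ v ∈ b.V, v⁻¹ * u ∈ A') → P A ≤ P A' := by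
      rintro A A' hA _ ⟨u, hu, rfl⟩
      obtain ⟨v, hv, hvu⟩ := hA u hu.1
      refine ⟨v⁻¹ * u, ⟨hvu, U.mul_mem (U.inv_mem (hWU (hVW hv))) hu.2⟩, ?_⟩
      rw [map_mul, map_inv, show π v = 1 from (QuotientGroup.eq_one_iff v).2 (hVW hv), inv_one, one_mul]
    have hN0 : ∀ c ∈ N, c ∈ P D.A0 → c = 1 := fun c hc hc0 => by
      have h1 := hfix0 D.z D.zH hzp c hc0
      rw [hNsq hc, inv_eq_one] at h1
      obtain ⟨s, hs⟩ := hpow c hc.1
      exact mem_bot.1 (mem_of_sq_mem h.hp2 hs (mem_bot.2 h1))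
    have hN21 : ∀ c ∈ N, c ∈ P D.A2 → c ∈ P D.A1 := fun c hc hc2 => by
      obtain ⟨s, hs⟩ := hpow c hc.1
      refine mem_of_sq_mem h.hp2 hs (inv_mem_iff.1 ?_)
      rw [← hNsq hc]
      exact hdlP (D.cent2 D.z D.zH hzp) c hc2
    rcases D.cov with hc | hc
    · obtain ⟨u, hu, rfl⟩ := hNP3 a ha
      have h2 : dl (π g') (dl (π g') (π u)) ∈ P D.A2 :=
        ⟨dl g' (dl g' u), ⟨D.quad3 g' hg' u hu.1, dl_mem g' (dl_mem g' hu.2)⟩, by simp [map_dl]⟩
      exact hN0 _ hdd (hcov hc (hN21 _ hdd h2))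
    · obtain ⟨u, hu, rfl⟩ := hN21 a ha (hcov hc (hNP3 a ha))
      exact hN0 _ hdd
        ⟨dl g' (dl g' u), ⟨D.quad1 g' hg' u hu.1, dl_mem g' (dl_mem g' hu.2)⟩, by simp [map_dl]⟩
  -- `p'`-elements of `H` move the section into `N`
  have hmove : ∀ y ∈ D.H, ¬ p ∣ orderOf y → ∀ a ∈ Ub, dl (π y) a ∈ N := by
    intro y hy hyp
    have hyp' : ¬ p ∣ orderOf (π y) := fun hd => hyp (hd.trans (orderOf_map_dvd π y))
    have hfd : ∀ {a}, a ∈ Ub → ζ * a * ζ⁻¹ = a → ζ * dl (π y) a * ζ⁻¹ = dl (π y) a := by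
      intro a ha hf
      rw [dl, show ζ * (π y * a * (π y)⁻¹ * a⁻¹) * ζ⁻¹ =
        (ζ * (π y * a * (π y)⁻¹) * ζ⁻¹) * (ζ * a * ζ⁻¹)⁻¹ by group, hHζ y hy a ha, hf]
    have hdown : ∀ {A A' : Subgroup X}, (∀ u ∈ A, D.z * u * D.z⁻¹ * u ∈ A') →
        ∀ a ∈ P A, ζ * a * ζ⁻¹ = a → a ∈ P A' := fun {A A'} hA a ha hf => by
      obtain ⟨s, hs⟩ := hpow a (hPU A ha)
      refine mem_of_sq_mem h.hp2 hs ?_
      have h1 := hnegP hA a ha
      rwa [hf] at h1
    have hstep : ∀ a, a ∈ Ub → dl (π y) (dl (π y) a) = 1 → dl (π y) a = 1 := fun a ha h1 =>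
      dl_eq_one_of_fix (U := Ub) hab hUbp hyp' ha (dl_eq_one.1 h1)
    have h1 : ∀ a ∈ P D.A1, ζ * a * ζ⁻¹ = a → dl (π y) a = 1 := fun a ha hf =>
      hfix0 y hy hyp a (hdown D.neg1 a ha hf)
    have h2 : ∀ a ∈ P D.A2, ζ * a * ζ⁻¹ = a → dl (π y) a = 1 := fun a ha hf =>
      hstep a (hPU _ ha) (h1 _ (hdlP (D.cent2 y hy hyp) a ha) (hfd (hPU _ ha) hf))
    have h3 : ∀ a ∈ P D.A3, ζ * a * ζ⁻¹ = a → dl (π y) a = 1 := fun a ha hf =>
      h2 a (hdown D.neg3 a ha hf) hf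
    have hR : ∀ a ∈ Ub, ζ * a * ζ⁻¹ = a → dl (π y) a = 1 := fun a ha hf =>
      hstep a ha (h3 _ (hR3 y hy hyp a ha) (hfd ha hf))
    intro a ha
    have hza : ζ * a * ζ⁻¹ ∈ Ub := hUbn.conj_mem a ha _
    have hzz : ∀ c, ζ * (ζ * c * ζ⁻¹) * ζ⁻¹ = c := fun c => by
      rw [show ζ * (ζ * c * ζ⁻¹) * ζ⁻¹ = (ζ * ζ) * c * (ζ * ζ)⁻¹ by group, hζ2]; simp
    set f := a * (ζ * a * ζ⁻¹) with hf
    set n := a * (ζ * a * ζ⁻¹)⁻¹ with hn
    have hfU : f ∈ Ub := mul_mem ha hza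
    have hff : ζ * f * ζ⁻¹ = f := by
      rw [hf, show ζ * (a * (ζ * a * ζ⁻¹)) * ζ⁻¹ = (ζ * a * ζ⁻¹) * (ζ * (ζ * a * ζ⁻¹) * ζ⁻¹) by group,
        hzz, hab _ hza _ ha]
    have hnN : n ∈ N := ⟨mul_mem ha (inv_mem hza), by
      rw [hn, show ζ * (a * (ζ * a * ζ⁻¹)⁻¹) * ζ⁻¹ =
        (ζ * a * ζ⁻¹) * (ζ * (ζ * a * ζ⁻¹) * ζ⁻¹)⁻¹ by group, hzz, mul_inv_rev, inv_inv]⟩
    have hnd : dl (π y) n ∈ N := N.mul_mem ⟨hUbn.conj_mem n hnN.1 _, by
      rw [hHζ y hy n hnN.1, hnN.2]; group⟩ (N.inv_mem hnN)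
    have haa : a * a = n * f := by
      rw [hn, hf, hab a ha _ hza, mul_assoc, inv_mul_cancel_left]
    have hd2 : dl (π y) a * dl (π y) a = dl (π y) n := by
      rw [← dl_mul (U := Ub) hab _ ha ha, haa, dl_mul (U := Ub) hab _ hnN.1 hfU, hR f hfU hff,
        mul_one]
    obtain ⟨s, hs⟩ := hpow _ (dl_mem (π y) ha)
    exact mem_of_sq_mem h.hp2 hs (hd2 ▸ hnd)
  -- the span of the conjugates of `N`
  let Sig : Subgroup (X ⧸ W) :=
    closure {x | ∃ s ∈ (S : Subgroup X), ∃ n ∈ N, x = π s * n * (π s)⁻¹}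
  have hNSig : N ≤ Sig := fun n hn => subset_closure ⟨1, one_mem _, n, hn, by simp⟩
  have hSigU : Sig ≤ Ub := (closure_le _).2 fun x ⟨s, _, n, hn, e⟩ => e ▸ hUbn.conj_mem n (hNU hn) _
  have hinv : (normalizer (Sig : Set (X ⧸ W))).comap π = ⊤ := by
    refine top_le_iff.1 (D.top.ge.trans (sup_le ?_ ?_))
    · intro t ht
      refine mem_comap.2 (FFStruct.mem_normalizer_of_cj (eq_of_le_of_card_ge ?_
        (FFStruct.card_cj _ Sig).ge))
      show Sig.map _ ≤ Sig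
      rw [MonoidHom.map_closure, closure_le]
      rintro _ ⟨_, ⟨s, hs, n, hn, rfl⟩, rfl⟩
      exact subset_closure ⟨t * s, mul_mem ht hs, n, hn, by simp [mul_assoc]⟩
    · have hy : ∀ y ∈ D.H, ¬ p ∣ orderOf y → y ∈ (normalizer (Sig : Set (X ⧸ W))).comap π := by
        intro y hy hyp
        refine mem_comap.2 (FFStruct.mem_normalizer_of_cj (eq_of_le_of_card_ge ?_
          (FFStruct.card_cj _ Sig).ge))
        rintro _ ⟨x, hx, rfl⟩
        show π y * x * (π y)⁻¹ ∈ Sig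
        rw [show π y * x * (π y)⁻¹ = dl (π y) x * x by simp only [dl]; group]
        exact mul_mem (hNSig (hmove y hy hyp x (hSigU hx))) hx
      refine D.gen _ ?_ hy
      intro t ht
      refine mem_comap.2 (FFStruct.mem_normalizer_of_cj (eq_of_le_of_card_ge ?_
        (FFStruct.card_cj _ Sig).ge))
      show Sig.map _ ≤ Sig
      rw [MonoidHom.map_closure, closure_le]
      rintro _ ⟨_, ⟨s, hs, n, hn, rfl⟩, rfl⟩
      exact subset_closure ⟨t * s, mul_mem (ht : t ∈ (S : Subgroup X) ⊓ _).1 hs, n, hn,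
        by simp [mul_assoc]⟩
  haveI hSign : Sig.Normal := normalizer_eq_top_iff.1
    (comap_injective hπ (hinv.trans (comap_top π).symm))
  intro u hu
  have hu' : π u ∈ Ub := mem_map_of_mem π hu
  refine (QuotientGroup.eq_one_iff _).1 ?_
  show π (dl g (dl g u)) = 1
  rw [map_dl, map_dl]
  rcases hirr (Sig.comap π) inferInstance (hker.ge.trans (MonoidHom.comap_bot π ▸ comap_mono bot_le))
    ((comap_mono hSigU).trans hUbU.le) with e | e
  · -- `Sig` trivial: the section is central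
    have hSig : Sig = ⊥ := comap_injective hπ (by rw [e, MonoidHom.comap_bot, hker])
    have hyU : ∀ y ∈ D.H, ¬ p ∣ orderOf y → ∀ a ∈ Ub, π y * a * (π y)⁻¹ = a := fun y hy hyp a ha =>
      dl_eq_one.1 (mem_bot.1 (hSig ▸ hNSig (hmove y hy hyp a ha)))
    set Cc := Ub ⊓ centralizer (((S : Subgroup X).map π : Subgroup (X ⧸ W)) : Set (X ⧸ W)) with hCc
    have hCn : (normalizer (Cc : Set (X ⧸ W))).comap π = ⊤ := by
      have hSC : (S : Subgroup X) ≤ (normalizer (Cc : Set (X ⧸ W))).comap π := fun t ht =>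
        mem_comap.2 (FFStruct.mem_normalizer_of_cj (eq_of_le_of_card_ge (by
          rintro _ ⟨x, hx, rfl⟩
          show π t * x * (π t)⁻¹ ∈ Cc
          rw [mem_centralizer_iff.1 hx.2 (π t) (mem_map_of_mem π ht), mul_inv_cancel_right]
          exact hx) (FFStruct.card_cj _ Cc).ge))
      refine top_le_iff.1 (D.top.ge.trans (sup_le hSC (D.gen _ (inf_le_left.trans hSC) ?_)))
      intro y hy hyp
      refine mem_comap.2 (FFStruct.mem_normalizer_of_cj (eq_of_le_of_card_ge ?_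
        (FFStruct.card_cj _ Cc).ge))
      rintro _ ⟨x, hx, rfl⟩
      show π y * x * (π y)⁻¹ ∈ Cc
      rw [hyU y hy hyp x hx.1]
      exact hx
    haveI hCcn : Cc.Normal := normalizer_eq_top_iff.1
      (comap_injective hπ (hCn.trans (comap_top π).symm))
    obtain ⟨u0, hu0, hu0W⟩ := PushUp.exists_fix_notMem S.2 hlt hUS
    have hu0C : π u0 ∈ Cc := ⟨mem_map_of_mem π hu0.1, mem_centralizer_iff.2 (by
      rintro _ ⟨s, hs, rfl⟩
      refine commutatorElement_eq_one_iff_mul_comm.1 ?_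
      rw [← map_commutatorElement]
      exact (QuotientGroup.eq_one_iff _).2 (hu0.2 s hs))⟩
    have hUC : U ≤ Cc.comap π := by
      rcases hirr (Cc.comap π) inferInstance (hker.ge.trans (MonoidHom.comap_bot π ▸ comap_mono bot_le))
        ((comap_mono inf_le_left).trans hUbU.le) with e' | e'
      · exact absurd (e'.le (mem_comap.2 hu0C)) hu0W
      · exact e'.ge
    have hgS : π g ∈ (S : Subgroup X).map π := mem_map_of_mem π hg.1
    have h1 : dl (π g) (π u) = 1 :=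
      dl_eq_one.2 (by rw [mem_centralizer_iff.1 (mem_comap.1 (hUC hu)).2 (π g) hgS, mul_inv_cancel_right])
    rw [h1]; simp [dl]
  · have hSig : π u ∈ Sig := mem_comap.1 (e.ge hu)
    have hBch := baumannOf_char (p := p) (S : Subgroup X)
    have key : ∀ x ∈ Sig, x ∈ Ub ∧ dl (π g) (dl (π g) x) = 1 := by
      intro x hx
      induction hx using closure_induction with
      | mem x hx =>
        obtain ⟨s, hs, n, hn, rfl⟩ := hx
        refine ⟨hUbn.conj_mem n (hNU hn) _, ?_⟩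
        rw [dl_conj, dl_conj, ← map_inv, ← map_mul, ← map_mul,
          hquadN _ ?_ n hn, mul_one, map_inv, mul_inv_cancel]
        have hsN : s⁻¹ ∈ normalizer (B : Set X) := by
          haveI : (B.subgroupOf (S : Subgroup X)).Characteristic := hBch
          haveI : (B.subgroupOf (S : Subgroup X)).Normal := normal_of_characteristic _
          exact (normal_subgroupOf_iff_le_normalizer (inf_le_left : B ≤ (S : Subgroup X))).1 ‹_› (inv_mem hs)
        simpa using (mem_normalizer_iff.1 hsN g).1 hg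
      | one => exact ⟨one_mem _, by simp [dl]⟩
      | mul a c _ _ ha hc =>
        refine ⟨mul_mem ha.1 hc.1, ?_⟩
        rw [dl_mul (U := Ub) hab _ ha.1 hc.1, dl_mul (U := Ub) hab _ (dl_mem _ ha.1) (dl_mem _ hc.1),
          ha.2, hc.2, one_mul]
      | inv a _ ha =>
        refine ⟨inv_mem ha.1, ?_⟩
        have e1 : dl (π g) a⁻¹ = (dl (π g) a)⁻¹ := by
          refine eq_inv_of_mul_eq_one_left ?_
          rw [← dl_mul (U := Ub) hab _ (inv_mem ha.1) ha.1, inv_mul_cancel]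
          simp [dl]
        have hd := dl_mem (U := Ub) (π g) ha.1
        have e2 : dl (π g) (dl (π g) a)⁻¹ = (dl (π g) (dl (π g) a))⁻¹ := by
          refine eq_inv_of_mul_eq_one_left ?_
          rw [← dl_mul (U := Ub) hab _ (inv_mem hd) hd, inv_mul_cancel]
          simp [dl]
        rw [e1, e2, ha.2, inv_one]
    exact (key _ hSig).2

/-- Every element of `B(S)` kills every chief factor inside `O_p(X)` in two steps. -/
theorem good_baumann (h : Cfg p S M) (b : BData p S) (D : Datum S b) {g : X}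
    (hg : g ∈ Cfsg.baumannSubgroupOf p (S : Subgroup X)) :
    Control.GoodOn p (Cfsg.pCore p X) g := by
  intro U W hc hUQ
  obtain ⟨hlt, hUn, hWn, hirr⟩ := hc
  haveI := hUn
  haveI := hWn
  haveI hQn : (Cfsg.pCore p X).Normal := Core.pCore_normal
  haveI : b.Q0.Normal := b.hQ0
  haveI : b.V.Normal := b.hV
  have hp3 : 2 ≤ p - 1 := by
    have := (Fact.out : p.Prime).two_le
    have := h.hp2
    omega
  refine (KInf.iter_anti U _ hp3).trans ?_
  -- the section is abelian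
  have hcentral : ⁅U, U⁆ ≤ W := by
    have hQS : Cfsg.pCore p X ≤ (S : Subgroup X) := Core.pCore_le_sylow S
    obtain ⟨u, hu, huW⟩ := PushUp.exists_fix_notMem (S.2.to_le hQS) hlt hUQ
    haveI := PushUp.fix_normal (Q := Cfsg.pCore p X) (U := U) (W := W)
    have hW : W ≤ PushUp.fix (Cfsg.pCore p X) U W := fun w hw => ⟨hlt.le hw, fun s _ => by
      rw [commutatorElement_def]
      exact mul_mem (hWn.conj_mem w hw s) (inv_mem hw)⟩
    have e := (hirr _ inferInstance hW fun x hx => hx.1).resolve_left fun e => huW (e ▸ hu)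
    exact Subgroup.commutator_le.2 fun a ha c hc => (e.ge hc : c ∈ PushUp.fix _ U W).2 a (hUQ ha)
  let π := QuotientGroup.mk' W
  suffices hkey : ∀ u ∈ U, dl g (dl g u) ∈ W by
    refine KInf.iter_le_of_dg hcentral g 2 fun x hx => ?_
    refine (QuotientGroup.eq_one_iff _).1 ?_
    have hcm : ∀ a ∈ U, ∀ c ∈ U, π a * π c = π c * π a := fun a ha c hc => by
      refine commutatorElement_eq_one_iff_mul_comm.1 ?_
      rw [← map_commutatorElement]
      exact (QuotientGroup.eq_one_iff _).2 (hcentral (commutator_mem_commutator ha hc))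
    have hdg : ∀ y ∈ U, π (KInf.dg g y) = π (dl g y) := fun y hy => by
      have e := hcm y⁻¹ (inv_mem hy) (g * y * g⁻¹) (hUn.conj_mem y hy g)
      rw [KInf.dg, dl, map_mul, map_mul π (g * y * g⁻¹)]
      exact e
    show π (KInf.dg g (KInf.dg g x)) = 1
    rw [hdg _ (KInf.dg_mem g hx), dl, map_mul, map_mul, map_mul, hdg x hx, ← map_mul, ← map_mul,
      map_inv π (KInf.dg g x), hdg x hx, ← map_inv, ← map_mul]
    exact (QuotientGroup.eq_one_iff _).2 (hkey x hx)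
  intro u hu
  rcases hirr ((U ⊓ b.V) ⊔ W) inferInstance le_sup_right (sup_le inf_le_left hlt.le) with e1 | e1
  swap
  · -- covered by `V`
    obtain ⟨v, hv, w, hw, rfl⟩ := mem_sup_of_normal_right.1 (e1.ge hu)
    refine (QuotientGroup.eq_one_iff _).1 ?_
    show π (dl g (dl g (v * w))) = 1
    rw [map_dl, map_dl, map_mul, show π w = 1 from (QuotientGroup.eq_one_iff w).2 hw, mul_one,
      ← map_dl, ← map_dl]
    have hq := b.quad g hg v hv.2
    have hd : dl g v = (⁅v, g⁆)⁻¹ := by rw [dl, commutatorElement_def]; group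
    rw [show dl g (dl g v) = 1 from dl_eq_one.2 ?_, map_one]
    rw [hd]
    exact mul_inv_eq_iff_eq_mul.2
      ((show Commute ⁅v, g⁆ g from commutatorElement_eq_one_iff_mul_comm.1 hq).inv_left.eq).symm
  rcases hirr ((U ⊓ b.Q0) ⊔ W) inferInstance le_sup_right (sup_le inf_le_left hlt.le) with e2 | e2
  · -- `U ∩ Q₀ ≤ W`
    have h1 : dl g u ∈ U ⊓ b.Q0 := ⟨dl_mem g hu, by
      have := inv_mem (b.comm g hg u (hUQ hu))
      rwa [show (⁅u, g⁆)⁻¹ = dl g u by rw [dl, commutatorElement_def]; group] at this⟩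
    exact dl_mem g (le_sup_left.trans e2.le h1)
  -- the general case
  set U' := (U ⊓ b.Q0) ⊔ b.V with hU'
  set W' := (W ⊓ b.Q0) ⊔ b.V with hW'
  have hVU : U ⊓ b.V ≤ W := le_sup_left.trans e1.le
  have hirr' : ∀ N : Subgroup X, N.Normal → W' ≤ N → N ≤ U' → N = W' ∨ N = U' := by
    intro N hN hWN hNU
    have hNQ : N ≤ b.Q0 := hNU.trans (sup_le inf_le_right b.VQ0)
    rcases hirr ((N ⊓ U) ⊔ W) inferInstance le_sup_right (sup_le inf_le_right hlt.le) with e | e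
    · refine Or.inl (le_antisymm (fun x hx => ?_) hWN)
      obtain ⟨a, ha, v, hv, rfl⟩ := mem_sup_of_normal_right.1 (hNU hx)
      have haN : a ∈ N := by
        simpa using N.mul_mem hx (N.inv_mem (hWN (mem_sup_right hv)))
      exact mul_mem_sup ⟨le_sup_left.trans e.le ⟨haN, ha.1⟩, ha.2⟩ hv
    · refine Or.inr (le_antisymm hNU (sup_le (fun x hx => ?_) (le_sup_right.trans hWN)))
      obtain ⟨a, ha, w, hw, rfl⟩ := mem_sup_of_normal_right.1 (e.ge hx.1)
      refine mul_mem ha.1 (hWN (mem_sup_left ⟨hw, ?_⟩))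
      simpa using b.Q0.mul_mem (b.Q0.inv_mem (hNQ ha.1)) hx.2
  haveI : U'.Normal := inferInstanceAs ((U ⊓ b.Q0) ⊔ b.V).Normal
  haveI : W'.Normal := inferInstanceAs ((W ⊓ b.Q0) ⊔ b.V).Normal
  have hcore := quad_core h b D (U := U') (W := W') le_sup_right
    (sup_le_sup_right (inf_le_inf_right _ hlt.le) _) (sup_le inf_le_right b.VQ0) hirr' hg
  obtain ⟨x, hx, w, hw, rfl⟩ := mem_sup_of_normal_right.1 (e2.ge hu)
  refine (QuotientGroup.eq_one_iff _).1 ?_
  show π (dl g (dl g (x * w))) = 1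
  rw [map_dl, map_dl, map_mul, show π w = 1 from (QuotientGroup.eq_one_iff w).2 hw, mul_one,
    ← map_dl, ← map_dl]
  refine (QuotientGroup.eq_one_iff _).2 ?_
  obtain ⟨a, ha, v, hv, e⟩ := mem_sup_of_normal_right.1 (hcore x (mem_sup_left hx))
  rw [← e]
  refine mul_mem ha.1 (hVU ⟨?_, hv⟩)
  have hd : dl g (dl g x) ∈ U := dl_mem g (dl_mem g hx.1)
  rw [← e] at hd
  simpa using U.mul_mem (U.inv_mem (hlt.le ha.1)) hd

end Cfsg.Agent.PushRed
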