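import Cfsg.Agent.PushRed.Data
import Cfsg.Agent.S2762
import Cfsg.Agent.S2764
import Cfsg.Agent.S2765
import Cfsg.Agent.LocalStructure.Series
import Cfsg.Agent.KInf.Action

/-!
# A rank-one subgroup above the Baumann subgroup
-/

set_option autoImplicit false
set_option linter.unusedSectionVars false

namespace Cfsg.Agent.PushRed

open Subgroup
open scoped Pointwise commutatorElement MatrixGroups

universe u

section SL

variable {F : Type} [Field F] [Fintype F] {p : ℕ} [Fact p.Prime] [CharP F p]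

theorem two_ne_zero_of_odd (hp : p ≠ 2) : (2 : F) ≠ 0 := fun h => by
  have h' : ((2 : ℕ) : F) = 0 := by simpa using h
  rw [CharP.cast_eq_zero_iff F p] at h'
  exact hp ((Nat.prime_dvd_prime_iff_eq Fact.out Nat.prime_two).1 h')

theorem sl2_sq_eq_one (hp : p ≠ 2) {a : SL(2, F)} (h : a * a = 1) (h1 : a ≠ 1) : a = -1 := by
  have h2 := two_ne_zero_of_odd (F := F) hp
  have hinv : a⁻¹ = a := inv_eq_of_mul_eq_one_right h
  have hm : (a : Matrix (Fin 2) (Fin 2) F).adjugate = (a : Matrix (Fin 2) (Fin 2) F) := by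
    rw [← Matrix.SpecialLinearGroup.coe_inv, hinv]
  rw [Matrix.adjugate_fin_two] at hm
  have e01 := congrFun (congrFun hm 0) 1
  have e10 := congrFun (congrFun hm 1) 0
  have e00 := congrFun (congrFun hm 0) 0
  simp at e01 e10 e00
  have z01 : a.1 0 1 = 0 :=
    (mul_eq_zero.1 (by linear_combination (-1 : F) * e01 : (2 : F) * a.1 0 1 = 0)).resolve_left h2
  have z10 : a.1 1 0 = 0 :=
    (mul_eq_zero.1 (by linear_combination (-1 : F) * e10 : (2 : F) * a.1 1 0 = 0)).resolve_left h2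
  have hd : a.1 0 0 * a.1 1 1 - a.1 0 1 * a.1 1 0 = 1 := by rw [← Matrix.det_fin_two]; exact a.2
  rw [e00, z01, z10] at hd
  rcases mul_self_eq_one_iff.1 (by linear_combination hd : a.1 0 0 * a.1 0 0 = 1) with h3 | h3
  · exact absurd (Matrix.SpecialLinearGroup.ext _ _ fun i j => by
      fin_cases i <;> fin_cases j <;> simp [z01, z10, e00, h3]) h1
  · exact Matrix.SpecialLinearGroup.ext _ _ fun i j => by
      fin_cases i <;> fin_cases j <;> simp [z01, z10, e00, h3]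

theorem sl2_neg_one_ne (hp : p ≠ 2) : (-1 : SL(2, F)) ≠ 1 := fun h => by
  have h1 : (-1 : F) = 1 := by
    simpa using congrArg (fun a : SL(2, F) => a.1 0 0) h
  exact two_ne_zero_of_odd (F := F) hp (by linear_combination -h1)

/-- A `p`-element of `SL₂` acts quadratically. -/
theorem sl2_quad {a : SL(2, F)} (ha : IsPGroup p (zpowers a)) (f : Fin 2 → F) :
    a.1.mulVec (a.1.mulVec f - f) = a.1.mulVec f - f := by
  obtain ⟨P, hP⟩ := ha.exists_le_sylow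
  obtain ⟨-, l, -, h1, h2, -⟩ := FFStruct.sl2_sylow_line P
  obtain ⟨c, hc⟩ := h1 a (hP (mem_zpowers a)) f
  rw [hc, h2 a (hP (mem_zpowers a))]

end SL

variable {p : ℕ} [hpf : Fact p.Prime]

/-- An element of order prime to `p` centralises a hypercentral `p`-section. -/
theorem fix_of_hyp {G : Type*} [Group G] [Finite G] {N L : Subgroup G} [N.Normal] [L.Normal]
    (hN : IsPGroup p N) (h : ∃ k, Cfsg.iterCommutator N ⊤ k ≤ L) {y : G} (hy : ¬ p ∣ orderOf y) :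
    ∀ u ∈ N, y * u * y⁻¹ * u⁻¹ ∈ L := by
  obtain ⟨k, hk⟩ := h
  suffices key : ∀ i ≤ k, ∀ u ∈ Cfsg.iterCommutator N ⊤ (k - i), y * u * y⁻¹ * u⁻¹ ∈ L by
    intro u hu
    exact key k le_rfl u (by rw [Nat.sub_self]; exact hu)
  intro i
  induction i with
  | zero =>
    intro _ u hu
    have hu' : u ∈ L := hk hu
    exact L.mul_mem ((inferInstance : L.Normal).conj_mem u hu' y) (L.inv_mem hu')
  | succ i ih =>
    intro hi u hu
    have hd : y * u * y⁻¹ * u⁻¹ ∈ Cfsg.iterCommutator N ⊤ (k - i) := by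
      rw [show k - i = (k - (i + 1)) + 1 by omega]
      have h1 : ⁅u, y⁆ ∈ Cfsg.iterCommutator N ⊤ ((k - (i + 1)) + 1) :=
        commutator_mem_commutator hu (mem_top y)
      have h2 := inv_mem h1
      rwa [show (⁅u, y⁆)⁻¹ = y * u * y⁻¹ * u⁻¹ by rw [commutatorElement_def]; group] at h2
    have hdN : y * u * y⁻¹ * u⁻¹ ∈ N :=
      KInf.iter_anti N ⊤ (Nat.zero_le _) hd
    let π := QuotientGroup.mk' L
    set d := π (y * u * y⁻¹ * u⁻¹) with hdd
    have hyd : π y * d * (π y)⁻¹ = d := by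
      have h1 := (QuotientGroup.eq_one_iff _).2 (ih (by omega) _ hd)
      change π (y * (y * u * y⁻¹ * u⁻¹) * y⁻¹ * (y * u * y⁻¹ * u⁻¹)⁻¹) = 1 at h1
      simp only [map_mul, map_inv] at h1
      simp only [hdd, map_mul, map_inv]
      exact mul_inv_eq_one.1 h1
    have hpow : ∀ n : ℕ, π y ^ n * π u * (π y ^ n)⁻¹ = d ^ n * π u := by
      intro n
      induction n with
      | zero => simp
      | succ n hn =>
        rw [pow_succ', mul_inv_rev,
          show π y * π y ^ n * π u * ((π y ^ n)⁻¹ * (π y)⁻¹) =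
            π y * (π y ^ n * π u * (π y ^ n)⁻¹) * (π y)⁻¹ by group, hn,
          show π y * (d ^ n * π u) * (π y)⁻¹ = (π y * d * (π y)⁻¹) ^ n * (π y * π u * (π y)⁻¹) by
            rw [conj_pow]; group,
          hyd, show π y * π u * (π y)⁻¹ = d * π u by simp only [hdd, map_mul, map_inv]; group,
          pow_succ, mul_assoc]
    have hm := hpow (orderOf y)
    rw [← map_pow, pow_orderOf_eq_one, map_one, one_mul, inv_one, mul_one, right_eq_mul] at hm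
    obtain ⟨s, hs⟩ := hN ⟨_, hdN⟩
    have hs' : d ^ (p ^ s) = 1 := by
      rw [hdd, ← map_pow, show (y * u * y⁻¹ * u⁻¹) ^ p ^ s = 1 from congrArg Subtype.val hs, map_one]
    refine (QuotientGroup.eq_one_iff _).1 ?_
    show d = 1
    refine orderOf_eq_one_iff.1 (Nat.eq_one_of_dvd_coprimes ?_ (orderOf_dvd_of_pow_eq_one hm)
      (orderOf_dvd_of_pow_eq_one hs'))
    exact Nat.Coprime.pow_right _ ((Nat.Prime.coprime_iff_not_dvd hpf.out).2 hy).symm

variable {X : Type u} [Group X] [Finite X]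

/-- A rank-one piece: a subgroup `H` above `B(S)` with `H/R ≅ SL₂`, an involution `z` central modulo `R`
and a series of `R` whose two distinguished sections are natural. -/
structure Datum (S : Sylow p X) (b : BData p S) where
  H : Subgroup X
  R : Subgroup X
  A0 : Subgroup X
  A1 : Subgroup X
  A2 : Subgroup X
  A3 : Subgroup X
  z : X
  top : (S : Subgroup X) ⊔ H = ⊤
  gen : ∀ L : Subgroup X, Cfsg.baumannSubgroupOf p (S : Subgroup X) ≤ L →
    (∀ y ∈ H, ¬ p ∣ orderOf y → y ∈ L) → H ≤ L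
  BH : Cfsg.baumannSubgroupOf p (S : Subgroup X) ≤ H
  Q0R : b.Q0 ≤ R
  zH : z ∈ H
  z2 : z * z = 1
  zc : ∀ h ∈ H, z * h * z⁻¹ * h⁻¹ ∈ Cfsg.pCore p X
  cent0 : ∀ y ∈ H, ¬ p ∣ orderOf y → ∀ u ∈ A0, y * u * y⁻¹ = u
  cent2 : ∀ y ∈ H, ¬ p ∣ orderOf y → ∀ u ∈ A2, y * u * y⁻¹ * u⁻¹ ∈ A1
  centR : ∀ y ∈ H, ¬ p ∣ orderOf y → ∀ u ∈ R, y * u * y⁻¹ * u⁻¹ ∈ A3
  neg1 : ∀ u ∈ A1, z * u * z⁻¹ * u ∈ A0
  neg3 : ∀ u ∈ A3, z * u * z⁻¹ * u ∈ A2
  quad1 : ∀ g ∈ Cfsg.baumannSubgroupOf p (S : Subgroup X), ∀ u ∈ A1,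
    g * (g * u * g⁻¹ * u⁻¹) * g⁻¹ * (g * u * g⁻¹ * u⁻¹)⁻¹ ∈ A0
  quad3 : ∀ g ∈ Cfsg.baumannSubgroupOf p (S : Subgroup X), ∀ u ∈ A3,
    g * (g * u * g⁻¹ * u⁻¹) * g⁻¹ * (g * u * g⁻¹ * u⁻¹)⁻¹ ∈ A2
  cov : (∀ u ∈ A1, ∃ v ∈ b.V, v⁻¹ * u ∈ A0) ∨ (∀ u ∈ A3, ∃ v ∈ b.V, v⁻¹ * u ∈ A2)

/-- An element of order prime to `p` generates with a Sylow subgroup the whole group. -/
theorem le_of_sylow_of_coprime {G : Type*} [Group G] [Finite G] {P : Subgroup G} (hP : ¬ p ∣ P.index)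
    {L : Subgroup G} (hPL : P ≤ L) (hy : ∀ y : G, ¬ p ∣ orderOf y → y ∈ L) : L = ⊤ := by
  rw [← Subgroup.index_eq_one]
  by_contra h
  obtain ⟨q, hq, hqd⟩ := Nat.exists_prime_and_dvd h
  haveI := Fact.mk hq
  have hqp : q ≠ p := by
    rintro rfl
    exact hP (hqd.trans (Subgroup.index_dvd_of_le hPL))
  obtain ⟨Q⟩ : Nonempty (Sylow q G) := inferInstance
  have hQL : (Q : Subgroup G) ≤ L := by
    intro y hy'
    refine hy y fun hd => ?_
    obtain ⟨k, hk⟩ := Q.2 ⟨y, hy'⟩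
    have h1 : orderOf y ∣ q ^ k := orderOf_dvd_of_pow_eq_one (congrArg Subtype.val hk)
    exact hqp ((Nat.prime_dvd_prime_iff_eq hpf.out hq).1 (hpf.out.dvd_of_dvd_pow (hd.trans h1))).symm
  exact Q.not_dvd_index (hqd.trans (Subgroup.index_dvd_of_le hQL))

/-- An involution acting as `1` on the sections outside the two distinguished ones and trivially on
`v` modulo the series centralises `v`. -/
theorem inv_trick {G : Type*} [Group G] [Finite G] {A : Subgroup G} (hA : IsPGroup p A) (hp : p ≠ 2)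
    {z v : G} (hz : z * z = 1) (hv : v ∈ A) (hd : z * v * z⁻¹ * v⁻¹ ∈ A)
    (hab : ∀ a ∈ A, ∀ b ∈ A, a * b = b * a)
    (h3 : z * (z * v * z⁻¹ * v⁻¹) * z⁻¹ = z * v * z⁻¹ * v⁻¹) : z * v * z⁻¹ = v := by
  set d := z * v * z⁻¹ * v⁻¹ with hdd
  have hzinv : z⁻¹ = z := inv_eq_of_mul_eq_one_right hz
  have h1 : z * d * z⁻¹ = d⁻¹ := by
    rw [hdd, hzinv]
    calc z * (z * v * z * v⁻¹) * z = (z * z) * v * (z * v⁻¹ * z) := by group
      _ = v * (z * v⁻¹ * z) := by rw [hz, one_mul]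
      _ = (z * v * z * v⁻¹)⁻¹ := by
        simp only [mul_inv_rev, inv_inv, hzinv]; group
  rw [h3] at h1
  have h2 : d ^ 2 = 1 := by rw [sq]; exact mul_eq_one_iff_eq_inv.2 h1
  obtain ⟨s, hs⟩ := hA ⟨d, hd⟩
  have h4 : d = 1 := orderOf_eq_one_iff.1 (Nat.eq_one_of_dvd_coprimes
    (((Nat.coprime_primes Nat.prime_two hpf.out).2 (Ne.symm hp)).pow_right s)
    (orderOf_dvd_of_pow_eq_one h2) (orderOf_dvd_of_pow_eq_one (congrArg Subtype.val hs)))
  exact mul_inv_eq_one.1 (hdd ▸ h4)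

variable {S : Sylow p X} {M : Subgroup X}

theorem exists_datum (h : Cfg p S M) (b : BData p S) : Nonempty (Datum S b) := by
  classical
  let i : Fin b.r := ⟨0, b.pos⟩
  set B := Cfsg.baumannSubgroupOf p (S : Subgroup X) with hBdef
  haveI hQn : (Cfsg.pCore p X).Normal := Core.pCore_normal
  obtain ⟨n, hn, hF⟩ := b.card_F i
  haveI : CharP (b.F i) p := charP_of_card_eq_prime_pow hF
  have hB : IsPGroup p B := S.2.to_le inf_le_left
  let good : Subgroup X → Prop := fun H => B ≤ H ∧ H ≤ b.X0 ∧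
    (∀ a : SL(2, b.F i), ∃ x : ↥b.X0, (x : X) ∈ H ∧ b.φ i x = a) ∧
    ∀ x : ↥b.X0, (x : X) ∈ H → ∀ j, j ≠ i → ∃ c : ↥b.X0, (c : X) ∈ B ∧ b.φ j c = b.φ j x
  let H0 : Subgroup X :=
    (⨅ j : {j // j ≠ i}, ((B.subgroupOf b.X0).map (b.φ j)).comap (b.φ j)).map b.X0.subtype
  have hH0 : good H0 := by
    refine ⟨fun x hx => ⟨⟨x, b.BX0 hx⟩, ?_, rfl⟩, map_subtype_le _, fun a => ?_, fun x hx j hj => ?_⟩
    · exact mem_iInf.2 fun j => ⟨⟨x, b.BX0 hx⟩, hx, rfl⟩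
    · obtain ⟨x, hx⟩ := b.joint (fun j => if e : j = i then e ▸ a else 1)
      refine ⟨x, ⟨x, mem_iInf.2 fun j => ?_, rfl⟩, ?_⟩
      · refine mem_comap.2 ?_
        rw [hx, dif_neg j.2]
        exact one_mem _
      · rw [hx, dif_pos rfl]
    · obtain ⟨y, hy, e⟩ := hx
      obtain rfl : y = x := Subtype.ext e
      obtain ⟨c, hc, hce⟩ := mem_iInf.1 hy ⟨j, hj⟩
      exact ⟨c, hc, hce⟩
  obtain ⟨H, hHg, hmin⟩ := exists_minimal_of_wellFoundedLT good ⟨H0, hH0⟩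
  obtain ⟨hBH, hHX, hsurj, hoth⟩ := hHg
  have htop : (S : Subgroup X) ⊔ H = ⊤ := b.gen i H hBH hHX hsurj hoth
  let φ : ↥H →* SL(2, b.F i) := (b.φ i).comp (inclusion hHX)
  have hφ : Function.Surjective φ := fun a => by
    obtain ⟨x, hx, e⟩ := hsurj a
    exact ⟨⟨x, hx⟩, e⟩
  have hidx : ¬ p ∣ (B.subgroupOf H).index := by
    intro hd
    refine b.Bidx (hd.trans ?_)
    exact Dvd.intro _ (Subgroup.relIndex_mul_relIndex _ _ _ hBH hHX)
  have hBp : IsPGroup p (B.subgroupOf H) := hB.comap_of_injective H.subtype H.subtype_injective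
  let T : Sylow p ↥H := hBp.toSylow hidx
  have hT : (T : Subgroup ↥H) = B.subgroupOf H := rfl
  haveI : b.Q0.Normal := b.hQ0
  have hQ0H : b.Q0 ≤ H := b.Q0B.trans hBH
  have hQ0p : IsPGroup p (b.Q0.subgroupOf H) :=
    hBp.to_le (comap_mono b.Q0B)
  have hQ0R : b.Q0.subgroupOf H ≤ Cfsg.pCore p ↥H := Core.le_pCore hQ0p
  -- self-centralising
  have hE1 : centralizer (Cfsg.pCore p ↥H : Set ↥H) ≤ Cfsg.pCore p ↥H := by
    haveI : (centralizer (Cfsg.pCore p ↥H : Set ↥H)).Normal := inferInstance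
    refine Core.le_pCore (LocalStructure.isPGroup_of_forall_coprime fun a ha hac => ?_)
    have hQx : ∀ c ∈ b.Q0, (a : X) * c = c * (a : X) := fun c hc =>
      (congrArg Subtype.val (mem_centralizer_iff.1 ha ⟨c, hQ0H hc⟩ (hQ0R hc))).symm
    set x := (a : X) with hx
    have hord : orderOf x = orderOf a := Subgroup.orderOf_coe a
    have hxQ : x ∈ centralizer (Cfsg.pCore p X : Set X) := by
      refine mem_centralizer_iff.2 fun q hq => ?_
      set u := q⁻¹ * x * q * x⁻¹ with hu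
      have huQ : u ∈ Cfsg.pCore p X := by
        rw [hu, mul_assoc, mul_assoc, show q⁻¹ * (x * (q * x⁻¹)) = q⁻¹ * (x * q * x⁻¹) by group]
        exact mul_mem (inv_mem hq) (hQn.conj_mem q hq x)
      have hu0 : u ∈ b.Q0 := by
        refine b.cQ0 ⟨huQ, mem_centralizer_iff.2 fun c hc => ?_⟩
        have hc1 : q * c * q⁻¹ ∈ b.Q0 := b.hQ0.conj_mem c hc q
        have e1 := hQx _ hc1
        have e2 : x⁻¹ * c = c * x⁻¹ := (Commute.inv_left (show Commute x c from hQx c hc)).eq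
        calc c * u = q⁻¹ * ((q * c * q⁻¹) * x) * q * x⁻¹ := by rw [hu]; group
          _ = q⁻¹ * (x * (q * c * q⁻¹)) * q * x⁻¹ := by rw [e1]
          _ = q⁻¹ * x * q * (c * x⁻¹) := by group
          _ = q⁻¹ * x * q * (x⁻¹ * c) := by rw [e2]
          _ = u * c := by rw [hu]; group
      have hux : Commute u x := (show Commute x u from hQx u hu0).symm
      have h1 : (u * x) ^ orderOf x = 1 := by
        rw [show u * x = q⁻¹ * x * q⁻¹⁻¹ by rw [hu]; group, conj_pow, pow_orderOf_eq_one]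
        group
      rw [hux.mul_pow, pow_orderOf_eq_one, mul_one] at h1
      obtain ⟨s, hs⟩ := Core.pCore_isPGroup ⟨u, huQ⟩
      have hu1 : u = 1 := orderOf_eq_one_iff.1 (Nat.eq_one_of_dvd_coprimes
        ((hord ▸ hac).pow_right s) (orderOf_dvd_of_pow_eq_one h1)
        (orderOf_dvd_of_pow_eq_one (congrArg Subtype.val hs)))
      rw [hu, mul_inv_eq_one] at hu1
      calc q * x = q * (q⁻¹ * x * q) := by rw [hu1]
        _ = x * q := by group
    obtain ⟨s, hs⟩ := Core.pCore_isPGroup ⟨x, h.hC hxQ⟩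
    refine orderOf_eq_one_iff.1 (Nat.eq_one_of_dvd_coprimes (hac.pow_right s) dvd_rfl ?_)
    exact hord ▸ orderOf_dvd_of_pow_eq_one (congrArg Subtype.val hs)
  -- the unique maximal subgroup over the Sylow subgroup
  set P := (T : Subgroup ↥H).map φ with hP
  let P' : Sylow p SL(2, b.F i) := T.mapSurjective hφ
  have hP' : (P' : Subgroup SL(2, b.F i)) = P := Sylow.coe_mapSurjective ..
  set M0 := (normalizer (P : Set SL(2, b.F i))).comap φ with hM0
  have hTM0 : (T : Subgroup ↥H) ≤ M0 := fun x hx => le_normalizer (mem_map_of_mem φ hx)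
  have hM0top : M0 ≠ ⊤ := by
    intro e
    have hPn : P.Normal := normalizer_eq_top_iff.1 (comap_injective hφ (e.trans (comap_top φ).symm))
    have hbot : P = ⊥ := S2762.pCore_sl2 P (hP' ▸ P'.2)
    have h1 := P'.not_dvd_index
    rw [hP', hbot, Subgroup.index_bot, Classical.card_sl2] at h1
    exact h1 (Dvd.dvd.mul_right (hF ▸ dvd_pow_self p (Nat.one_le_iff_ne_zero.1 hn)) _)
  have hover : ∀ L : Subgroup ↥H, (T : Subgroup ↥H) ≤ L → L ≠ ⊤ → L ≤ M0 := by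
    intro L hTL hL
    have hLφ : L.map φ ≠ ⊤ := by
      intro e
      have hg : good (L.map H.subtype) := by
        refine ⟨fun x hx => ⟨⟨x, hBH hx⟩, hTL hx, rfl⟩, (map_subtype_le _).trans hHX, fun a => ?_,
          fun x hx j hj => ?_⟩
        · obtain ⟨l, hl, e'⟩ : a ∈ L.map φ := e ▸ mem_top a
          exact ⟨⟨l, hHX l.2⟩, ⟨l, hl, rfl⟩, e'⟩
        · exact hoth x (map_subtype_le _ hx) j hj
      have hle : H ≤ L.map H.subtype := hmin hg (map_subtype_le _)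
      refine hL (eq_top_iff.2 fun x _ => ?_)
      obtain ⟨l, hl, e'⟩ := hle x.2
      exact (Subtype.ext e' : l = x) ▸ hl
    intro x hx
    rw [hM0, mem_comap]
    by_contra hne
    refine hLφ (top_le_iff.1 ?_)
    rw [← Classical.sylow_sl2_sup p P' (φ x • P') fun e' => hne ?_]
    · refine sup_le (hP'.le.trans (map_mono hTL)) ?_
      rw [Sylow.coe_subgroup_smul, hP']
      rintro _ ⟨_, ⟨t, ht, rfl⟩, rfl⟩
      exact ⟨x * t * x⁻¹, mul_mem (mul_mem hx (hTL ht)) (inv_mem hx), by simp⟩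
    · rw [← hP']
      exact Sylow.smul_eq_iff_mem_normalizer.1 e'.symm
  have hE2 : ∃! M : Subgroup ↥H, IsCoatom M ∧ (T : Subgroup ↥H) ≤ M := by
    refine ⟨M0, ⟨⟨hM0top, fun L hL => by_contra fun hne => hL.not_ge (hover L (hTM0.trans hL.le) hne)⟩,
      hTM0⟩, fun M' hM' => ?_⟩
    exact ((hM'.1.le_iff.1 (hover M' hM'.2 hM'.1.1)).resolve_left hM0top).symm
  let ψ : ↥H →* Matrix.ProjectiveSpecialLinearGroup (Fin 2) (b.F i) :=
    (QuotientGroup.mk' _).comp φ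
  have hψ : Function.Surjective ψ := (QuotientGroup.mk'_surjective _).comp hφ
  have hd : ∀ C : Subgroup ↥(T : Subgroup ↥H), C ≠ ⊥ → C.Characteristic →
      ¬ (C.map (T : Subgroup ↥H).subtype).Normal := by
    intro C hC hCc hCn
    let e : ↥(T : Subgroup ↥H) ≃* ↥B := (MulEquiv.subgroupCongr hT).trans (subgroupOfEquivOfLe hBH)
    have hC' : (C.map e.toMonoidHom).Characteristic := by
      rw [characteristic_iff_map_eq]
      intro ψ'
      have h1 := characteristic_iff_map_eq.1 hCc ((e.trans ψ').trans e.symm)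
      conv_rhs => rw [← h1]
      rw [Subgroup.map_map, Subgroup.map_map]
      congr 1
    set K := (C.map e.toMonoidHom).map B.subtype with hK
    have hKS := char_trans (inf_le_left : B ≤ (S : Subgroup X)) (baumannOf_char _) _ hC'
    have hKB : K ≤ B := map_subtype_le _
    have hKH : K = (C.map (T : Subgroup ↥H).subtype).map H.subtype := by
      simp only [hK, Subgroup.map_map]
      congr 1
    refine h.hchar (K.subgroupOf (S : Subgroup X)) ?_ hKS ?_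
    · rw [Ne, subgroupOf_eq_bot, disjoint_iff, inf_eq_left.2 (hKB.trans inf_le_left), hK,
        map_eq_bot_iff_of_injective _ B.subtype_injective, map_eq_bot_iff_of_injective _ e.injective]
      exact hC
    · rw [subgroupOf_map_subtype, inf_eq_left.2 (hKB.trans inf_le_left)]
      refine normalizer_eq_top_iff.1 (top_le_iff.1 (htop.ge.trans (sup_le ?_ ?_)))
      · haveI : (K.subgroupOf (S : Subgroup X)).Characteristic := hKS
        exact (normal_subgroupOf_iff_le_normalizer (hKB.trans inf_le_left)).1 inferInstance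
      · intro g hg
        refine FFStruct.mem_normalizer_of_cj (eq_of_le_of_card_ge ?_ (FFStruct.card_cj g K).ge)
        rw [hKH]
        rintro _ ⟨_, ⟨c, hc, rfl⟩, rfl⟩
        exact ⟨⟨g, hg⟩ * c * (⟨g, hg⟩ : ↥H)⁻¹, hCn.conj_mem c hc _, by simp⟩
  haveI hKn : ψ.ker.Normal := inferInstance
  have hE3 : Nonempty (↥H ⧸ ψ.ker ≃* Matrix.ProjectiveSpecialLinearGroup (Fin 2) (b.F i)) :=
    ⟨QuotientGroup.quotientKerEquivOfSurjective ψ hψ⟩
  obtain ⟨⟨eq⟩, hnat⟩ := S2764.result T hE1 hE2 ψ.ker (b.F i) n hn hF hE3 hd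
  set R := Cfsg.pCore p ↥H with hR
  haveI hRn : R.Normal := Core.pCore_normal
  have hRp : IsPGroup p R := Core.pCore_isPGroup
  have hker : ∀ {f : ↥H →* SL(2, b.F i)}, Function.Surjective f → f.ker = R := by
    intro f hf
    have hle : R ≤ f.ker := by
      haveI := hRn.map f hf
      exact (Subgroup.map_eq_bot_iff R).1 (S2762.pCore_sl2 (R.map f) (hRp.map f))
    refine (eq_of_le_of_card_ge hle ?_).symm
    have h1 := f.ker.card_eq_card_quotient_mul_card_subgroup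
    have h2 := R.card_eq_card_quotient_mul_card_subgroup
    rw [Nat.card_congr (QuotientGroup.quotientKerEquivOfSurjective f hf).toEquiv] at h1
    rw [Nat.card_congr eq.toEquiv, h1] at h2
    exact (Nat.eq_of_mul_eq_mul_left Nat.card_pos h2).le
  -- the involution
  obtain ⟨x, hx⟩ := hφ (-1)
  have hne := sl2_neg_one_ne (F := b.F i) h.hp2
  have hx2 : orderOf (φ x) = 2 := orderOf_eq_prime (by rw [hx]; simp [sq]) (hx ▸ hne)
  obtain ⟨a, m, hm, hxo⟩ := Nat.exists_eq_two_pow_mul_odd (orderOf_pos x).ne'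
  set ζ := x ^ m with hζ
  have hζφ : φ ζ = -1 := by
    rw [hζ, map_pow, hx]
    exact hm.neg_one_pow
  have hζ2a : ζ ^ 2 ^ a = 1 := by rw [hζ, ← pow_mul, mul_comm, ← hxo, pow_orderOf_eq_one]
  have hζj : ∀ j, j ≠ i → b.φ j (inclusion hHX ζ) = 1 := by
    intro j hj
    obtain ⟨c, hc, e⟩ := hoth (inclusion hHX ζ) ζ.2 j hj
    obtain ⟨s, hs⟩ := hB ⟨c, hc⟩
    have h1 : (b.φ j (inclusion hHX ζ)) ^ p ^ s = 1 := by
      rw [← e, ← map_pow, show c ^ p ^ s = 1 from Subtype.ext (by simpa using congrArg Subtype.val hs), map_one]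
    have h2 : (b.φ j (inclusion hHX ζ)) ^ 2 ^ a = 1 := by
      rw [← map_pow, ← map_pow, hζ2a, map_one, map_one]
    exact orderOf_eq_one_iff.1 (Nat.eq_one_of_dvd_coprimes
      (Nat.Coprime.pow _ _ ((Nat.coprime_primes Nat.prime_two hpf.out).2 (Ne.symm h.hp2)))
      (orderOf_dvd_of_pow_eq_one h2) (orderOf_dvd_of_pow_eq_one h1))
  have hφR : ∀ y : ↥H, φ y = 1 → y ∈ R := fun y hy => (hker hφ).le (MonoidHom.mem_ker.2 hy)
  have hζsq : ζ * ζ = 1 := by
    have h1 : ζ * ζ ∈ R := hφR _ (by rw [map_mul, hζφ]; simp)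
    obtain ⟨s, hs⟩ := hRp ⟨_, h1⟩
    have h2 : (ζ * ζ) ^ 2 ^ a = 1 := by rw [← sq, ← pow_mul, mul_comm, pow_mul, hζ2a, one_pow]
    exact orderOf_eq_one_iff.1 (Nat.eq_one_of_dvd_coprimes
      (Nat.Coprime.pow _ _ ((Nat.coprime_primes Nat.prime_two hpf.out).2 (Ne.symm h.hp2)))
      (orderOf_dvd_of_pow_eq_one h2) (orderOf_dvd_of_pow_eq_one (congrArg Subtype.val hs)))
  have hζne : ζ ≠ 1 := fun e => hne (by rw [← hζφ, e, map_one])
  have hζp : ¬ p ∣ orderOf ζ := by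
    rw [orderOf_eq_prime (by rw [sq]; exact hζsq) hζne]
    exact fun hd => h.hp2 ((Nat.prime_dvd_prime_iff_eq hpf.out Nat.prime_two).1 hd)
  have hzc : ∀ y : ↥H, ((ζ * y * ζ⁻¹ * y⁻¹ : ↥H) : X) ∈ Cfsg.pCore p X := by
    intro y
    set c := ζ * y * ζ⁻¹ * y⁻¹ with hc
    have hcR : c ∈ R := hφR _ (by
      rw [hc, map_mul, map_mul, map_mul, map_inv, map_inv, hζφ]
      simp)
    have hcC : (c : X) ∈ centralizer (b.V : Set X) := by
      refine (b.ker (inclusion hHX c)).1 fun j => ?_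
      rcases eq_or_ne j i with rfl | hj
      · show φ c = 1
        exact MonoidHom.mem_ker.1 ((hker hφ).ge hcR)
      · rw [hc, map_mul, map_mul, map_mul, map_inv, map_inv, map_mul, map_mul, map_mul, map_inv,
          map_inv, hζj j hj]
        group
    refine b.pC ((R ⊓ (centralizer (b.V : Set X)).subgroupOf H).map H.subtype)
      ((hRp.to_le inf_le_left).map _) ?_ ⟨c, ⟨hcR, hcC⟩, rfl⟩
    rintro _ ⟨w, hw, rfl⟩
    exact hw.2
  -- properties of natural sections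
  have hsec : ∀ (U W : Subgroup ↥H) [W.Normal], U ≤ R → Cfsg.IsChiefFactor U W →
      ¬ ⁅U, (⊤ : Subgroup ↥H)⁆ ≤ W →
      (∀ u ∈ U, ζ * u * ζ⁻¹ * u ∈ W) ∧
      (∀ g ∈ (T : Subgroup ↥H), ∀ u ∈ U,
        g * (g * u * g⁻¹ * u⁻¹) * g⁻¹ * (g * u * g⁻¹ * u⁻¹)⁻¹ ∈ W) := by
    intro U W _ hUR hc hnc
    haveI hUn : U.Normal := hc.2.1
    obtain ⟨-, ρ, e, hρ, hρk, hρv⟩ := hnat U W hUR hc hnc
    let π := QuotientGroup.mk' W
    let ρ' : ↥H →* SL(2, b.F i) := ρ.comp (π.codRestrict ⊤ fun _ => mem_top _)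
    have hρ' : Function.Surjective ρ' := fun s => by
      obtain ⟨⟨l, hl⟩, rfl⟩ := hρ s
      obtain ⟨g, rfl⟩ := QuotientGroup.mk'_surjective W l
      exact ⟨g, rfl⟩
    have hk' := hker hρ'
    have hζρ : ρ' ζ = -1 := by
      refine sl2_sq_eq_one h.hp2 (by rw [← map_mul, hζsq, map_one]) fun e1 => ?_
      have h1 : φ ζ = 1 := MonoidHom.mem_ker.1 ((hker hφ).ge (hk'.le (MonoidHom.mem_ker.2 e1)))
      exact hne (hζφ ▸ h1)
    have hact : ∀ (g u : ↥H) (hu : u ∈ U), e (Additive.ofMul (⟨π (g * u * g⁻¹),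
        mem_map_of_mem π (hUn.conj_mem u hu g)⟩ : ↥(U.map π))) =
        (ρ' g : Matrix (Fin 2) (Fin 2) (b.F i)).mulVec
          (e (Additive.ofMul (⟨π u, mem_map_of_mem π hu⟩ : ↥(U.map π)))) := by
      intro g u hu
      obtain ⟨w, hw, hwe⟩ := hρv ⟨π g, mem_top _⟩ ⟨π u, mem_map_of_mem π hu⟩
      rw [show (⟨π (g * u * g⁻¹), mem_map_of_mem π (hUn.conj_mem u hu g)⟩ : ↥(U.map π)) = w from
        Subtype.ext (show π (g * u * g⁻¹) = (w : ↥H ⧸ W) by rw [hw]; simp)]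
      exact hwe
    have hδ : ∀ g : ↥H, ∀ u ∈ U, g * u * g⁻¹ * u⁻¹ ∈ U := fun g u hu =>
      U.mul_mem (hUn.conj_mem u hu g) (U.inv_mem hu)
    constructor
    · intro u hu
      refine (QuotientGroup.eq_one_iff _).1 ?_
      have h1 := hact ζ u hu
      rw [hζρ, Matrix.SpecialLinearGroup.coe_neg, Matrix.SpecialLinearGroup.coe_one, Matrix.neg_mulVec,
        Matrix.one_mulVec, ← map_neg] at h1
      have h2 := congrArg (fun w => ((Additive.toMul w : ↥(U.map π)) : ↥H ⧸ W)) (e.injective h1)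
      simp only [toMul_ofMul, toMul_neg, InvMemClass.coe_inv] at h2
      show π (ζ * u * ζ⁻¹ * u) = 1
      rw [map_mul, h2, inv_mul_cancel]
    · intro g hg u hu
      refine (QuotientGroup.eq_one_iff _).1 ?_
      set f := e (Additive.ofMul (⟨π u, mem_map_of_mem π hu⟩ : ↥(U.map π))) with hf
      set d := g * u * g⁻¹ * u⁻¹ with hd'
      have h1 : e (Additive.ofMul (⟨π d, mem_map_of_mem π (hδ g u hu)⟩ : ↥(U.map π))) =
          (ρ' g : Matrix (Fin 2) (Fin 2) (b.F i)).mulVec f - f := by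
        rw [hf, ← hact g u hu, ← map_sub, ← ofMul_div]
        congr 2
        apply Subtype.ext
        simp [hd', div_eq_mul_inv]
      have h2 := hact g d (hδ g u hu)
      rw [h1, sl2_quad ((IsPGroup.map T.2 ρ').to_le (zpowers_le.2 (mem_map_of_mem ρ' hg))), ← h1] at h2
      have h3 := congrArg (fun w => ((Additive.toMul w : ↥(U.map π)) : ↥H ⧸ W)) (e.injective h2)
      simp only [toMul_ofMul] at h3
      show π (g * d * g⁻¹ * d⁻¹) = 1
      rw [map_mul, h3, map_inv, mul_inv_cancel]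
  -- the series
  have hser : ∃ A0 A1 A2 A3 : Subgroup ↥H, A0.Normal ∧ A1.Normal ∧ A2.Normal ∧ A3.Normal ∧
      A0 ≤ A1 ∧ A1 ≤ A2 ∧ A2 ≤ A3 ∧ A3 ≤ R ∧
      (∃ k, Cfsg.iterCommutator A0 ⊤ k ≤ ⊥) ∧ (∃ k, Cfsg.iterCommutator A2 ⊤ k ≤ A1) ∧
      (∃ k, Cfsg.iterCommutator R ⊤ k ≤ A3) ∧
      ((∀ N : Subgroup ↥H, N.Normal → A0 ≤ N → N ≤ A1 → N = A0 ∨ N = A1) ∧
        (∀ u ∈ A1, ζ * u * ζ⁻¹ * u ∈ A0) ∧
        ∀ g ∈ (T : Subgroup ↥H), ∀ u ∈ A1,
          g * (g * u * g⁻¹ * u⁻¹) * g⁻¹ * (g * u * g⁻¹ * u⁻¹)⁻¹ ∈ A0) ∧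
      ((∀ N : Subgroup ↥H, N.Normal → A2 ≤ N → N ≤ A3 → N = A2 ∨ N = A3) ∧
        (∀ u ∈ A3, ζ * u * ζ⁻¹ * u ∈ A2) ∧
        ∀ g ∈ (T : Subgroup ↥H), ∀ u ∈ A3,
          g * (g * u * g⁻¹ * u⁻¹) * g⁻¹ * (g * u * g⁻¹ * u⁻¹)⁻¹ ∈ A2) := by
    rcases S2765.result T hE1 hE2 ψ.ker (b.F i) n hn hF hE3 hd with
      ⟨-, -, -, -, U, W, hWU, hUR, hc, hnc, ⟨k, hk⟩, hk'⟩ |
        ⟨-, -, -, -, U1, W1, U2, W2, h11, h12, h22, h2R, hc1, hc2, hn1, hn2, ⟨k1, hk1⟩, hk2, hk3⟩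
    · have hUn := hc.2.1
      have hWn := hc.2.2.1
      obtain ⟨hneg, hquad⟩ := hsec U W hUR hc hnc
      exact ⟨W, U, U, U, hWn, hUn, hUn, hUn, hWU, le_rfl, le_rfl, hUR, ⟨k, hk.le⟩, ⟨0, le_rfl⟩, hk',
        ⟨hc.2.2.2, hneg, hquad⟩, fun N _ h1 h2 => Or.inl (le_antisymm h2 h1),
        fun u hu => U.mul_mem (hUn.conj_mem u hu ζ) hu,
        fun g _ u hu => U.mul_mem (hUn.conj_mem _ (U.mul_mem (hUn.conj_mem u hu g) (U.inv_mem hu)) g)
          (U.inv_mem (U.mul_mem (hUn.conj_mem u hu g) (U.inv_mem hu)))⟩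
    · have hU1n := hc1.2.1
      have hW1n := hc1.2.2.1
      have hU2n := hc2.2.1
      have hW2n := hc2.2.2.1
      obtain ⟨hneg1, hquad1⟩ := hsec U1 W1 (h12.trans (h22.trans h2R)) hc1 hn1
      obtain ⟨hneg2, hquad2⟩ := hsec U2 W2 h2R hc2 hn2
      exact ⟨W1, U1, W2, U2, hW1n, hU1n, hW2n, hU2n, h11, h12, h22, h2R, ⟨k1, hk1.le⟩, hk2, hk3,
        ⟨hc1.2.2.2, hneg1, hquad1⟩, hc2.2.2.2, hneg2, hquad2⟩
  obtain ⟨A0, A1, A2, A3, hA0n, hA1n, hA2n, hA3n, h01, h12, h23, h3R, hk0, hk2, hk3,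
    ⟨hirr1, hneg1, hquad1⟩, hirr3, hneg3, hquad3⟩ := hser
  have hc0 : ∀ y : ↥H, ¬ p ∣ orderOf y → ∀ u ∈ A0, y * u * y⁻¹ = u := fun y hy u hu =>
    mul_inv_eq_one.1 (mem_bot.1
      (fix_of_hyp (hRp.to_le (h01.trans (h12.trans (h23.trans h3R)))) hk0 hy u hu))
  have hc2 : ∀ y : ↥H, ¬ p ∣ orderOf y → ∀ u ∈ A2, y * u * y⁻¹ * u⁻¹ ∈ A1 := fun y hy =>
    fix_of_hyp (hRp.to_le (h23.trans h3R)) hk2 hy
  have hc3 : ∀ y : ↥H, ¬ p ∣ orderOf y → ∀ u ∈ R, y * u * y⁻¹ * u⁻¹ ∈ A3 := fun y hy =>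
    fix_of_hyp hRp hk3 hy
  -- one of the two sections is covered by `V`
  haveI : b.V.Normal := b.hV
  set V' := b.V.subgroupOf H with hV'
  haveI : V'.Normal := inferInstance
  have hV'R : V' ≤ R := (comap_mono b.VQ0).trans hQ0R
  have hcov : (∀ u ∈ A1, ∃ v ∈ V', v⁻¹ * u ∈ A0) ∨ (∀ u ∈ A3, ∃ v ∈ V', v⁻¹ * u ∈ A2) := by
    by_cases hb1 : V' ⊓ A1 ≤ A0
    · by_cases hb3 : V' ⊓ A3 ≤ A2
      · exfalso
        have hab : ∀ a ∈ V', ∀ c ∈ V', a * c = c * a := fun a ha c hc => Subtype.ext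
          (mem_centralizer_iff.1 (b.VQ hc) (a : X) (b.Q0Q (b.VQ0 ha)))
        have hV'δ : ∀ v ∈ V', ζ * v * ζ⁻¹ * v⁻¹ ∈ V' := fun v hv =>
          V'.mul_mem ((inferInstance : V'.Normal).conj_mem v hv ζ) (V'.inv_mem hv)
        have hfix1 : ∀ v ∈ V', v ∈ A2 → ζ * v * ζ⁻¹ = v := fun v hv hvA =>
          inv_trick (hRp.to_le hV'R) h.hp2 hζsq hv (hV'δ v hv) hab
            (hc0 ζ hζp _ (hb1 ⟨hV'δ v hv, hc2 ζ hζp v hvA⟩))
        have hfix : ∀ v ∈ V', ζ * v * ζ⁻¹ = v := fun v hv =>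
          inv_trick (hRp.to_le hV'R) h.hp2 hζsq hv (hV'δ v hv) hab
            (hfix1 _ (hV'δ v hv) (hb3 ⟨hV'δ v hv, hc3 ζ hζp v (hV'R hv)⟩))
        have hzC : (ζ : X) ∈ centralizer (b.V : Set X) := by
          refine mem_centralizer_iff.2 fun v hv => ?_
          have h1 := congrArg Subtype.val (hfix ⟨v, hQ0H (b.VQ0 hv)⟩ hv)
          exact (mul_inv_eq_iff_eq_mul.1 h1).symm
        exact hne (hζφ ▸ (b.ker (inclusion hHX ζ)).2 hzC i)
      · refine Or.inr fun u hu => ?_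
        rcases hirr3 ((V' ⊓ A3) ⊔ A2) inferInstance le_sup_right (sup_le inf_le_right h23) with e | e
        · exact absurd (le_sup_left.trans e.le) hb3
        · obtain ⟨v, hv, w, hw, rfl⟩ := mem_sup_of_normal_right.1 (e.ge hu)
          exact ⟨v, hv.1, by simpa using hw⟩
    · refine Or.inl fun u hu => ?_
      rcases hirr1 ((V' ⊓ A1) ⊔ A0) inferInstance le_sup_right (sup_le inf_le_right h01) with e | e
      · exact absurd (le_sup_left.trans e.le) hb1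
      · obtain ⟨v, hv, w, hw, rfl⟩ := mem_sup_of_normal_right.1 (e.ge hu)
        exact ⟨v, hv.1, by simpa using hw⟩
  refine ⟨{ H := H, R := R.map H.subtype, A0 := A0.map H.subtype, A1 := A1.map H.subtype,
            A2 := A2.map H.subtype, A3 := A3.map H.subtype, z := ζ, top := htop, gen := ?_, BH := hBH,
            Q0R := fun x hx => ⟨⟨x, hQ0H hx⟩, hQ0R hx, rfl⟩, zH := ζ.2,
            z2 := congrArg Subtype.val hζsq, zc := fun y hy => hzc ⟨y, hy⟩,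
            cent0 := ?_, cent2 := ?_, centR := ?_, neg1 := ?_, neg3 := ?_, quad1 := ?_, quad3 := ?_,
            cov := ?_ }⟩
  · intro L hBL hyL
    have e : L.subgroupOf H = ⊤ := le_of_sylow_of_coprime hidx (comap_mono hBL) fun y hy =>
      hyL y y.2 (by rwa [Subgroup.orderOf_coe])
    exact subgroupOf_eq_top.1 e
  · rintro y hy hyp _ ⟨u, hu, rfl⟩
    exact congrArg Subtype.val (hc0 ⟨y, hy⟩ (by rwa [← Subgroup.orderOf_coe]) u hu)
  · rintro y hy hyp _ ⟨u, hu, rfl⟩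
    exact ⟨_, hc2 ⟨y, hy⟩ (by rwa [← Subgroup.orderOf_coe]) u hu, rfl⟩
  · rintro y hy hyp _ ⟨u, hu, rfl⟩
    exact ⟨_, hc3 ⟨y, hy⟩ (by rwa [← Subgroup.orderOf_coe]) u hu, rfl⟩
  · rintro _ ⟨u, hu, rfl⟩
    exact ⟨_, hneg1 u hu, rfl⟩
  · rintro _ ⟨u, hu, rfl⟩
    exact ⟨_, hneg3 u hu, rfl⟩
  · rintro g hg _ ⟨u, hu, rfl⟩
    exact ⟨_, hquad1 ⟨g, hBH hg⟩ hg u hu, rfl⟩
  · rintro g hg _ ⟨u, hu, rfl⟩
    exact ⟨_, hquad3 ⟨g, hBH hg⟩ hg u hu, rfl⟩
  · rcases hcov with hc | hc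
    · refine Or.inl ?_
      rintro _ ⟨u, hu, rfl⟩
      obtain ⟨v, hv, h1⟩ := hc u hu
      exact ⟨v, hv, ⟨_, h1, rfl⟩⟩
    · refine Or.inr ?_
      rintro _ ⟨u, hu, rfl⟩
      obtain ⟨v, hv, h1⟩ := hc u hu
      exact ⟨v, hv, ⟨_, h1, rfl⟩⟩

end Cfsg.Agent.PushRed
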